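import Cfsg.Agent.SectRank81.MaxClass

/-!
Self-centralising subgroups of order `p ^ 2`, or non-abelian of order `p ^ 3`, provide an element
whose centraliser has order `p ^ 2`.
-/

set_option autoImplicit false
set_option linter.unusedSectionVars false
set_option linter.style.haveILetI false

namespace Cfsg.Agent.SectRank81

open Subgroup
open scoped commutatorElement

variable {X : Type*} [Group X] [Finite X] {p : ℕ} [hp : Fact p.Prime]

theorem card_center_pos_pow {n : ℕ} (hX : Nat.card X = p ^ n) (hn : 1 ≤ n) :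
    p ∣ Nat.card (center X) := by
  haveI : Nontrivial X := Finite.one_lt_card_iff_nontrivial.1 (by
    rw [hX]; exact Nat.one_lt_pow (by omega) hp.out.one_lt)
  exact PGroup.dvd_card_center (IsPGroup.of_card hX)

theorem sq_le_card_sup {n : ℕ} (hX : Nat.card X = p ^ n) (hn : 1 ≤ n) {x : X} (hx : x ∉ center X) :
    p ^ 2 ≤ Nat.card (zpowers x ⊔ center X : Subgroup X) := by
  have hG := IsPGroup.of_card hX
  obtain ⟨u, hu⟩ := PGroup.exists_card_eq_pow hG (center X)
  obtain ⟨v, hv⟩ := PGroup.exists_card_eq_pow hG (zpowers x ⊔ center X : Subgroup X)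
  have h1 : Nat.card (center X) < Nat.card (zpowers x ⊔ center X : Subgroup X) := by
    refine lt_of_le_of_ne (Subgroup.card_le_of_le le_sup_right) fun he => hx ?_
    rw [Subgroup.eq_of_le_of_card_ge le_sup_right he.ge]
    exact mem_sup_left (mem_zpowers x)
  have h2 := Nat.le_of_dvd Nat.card_pos (card_center_pos_pow (p := p) hX hn)
  rw [hu, hv] at h1
  rw [hu] at h2
  have h1' := (Nat.pow_lt_pow_iff_right hp.out.one_lt).1 h1
  have h3 : 1 ≤ u := by
    rcases Nat.eq_zero_or_pos u with rfl | h
    · have := hp.out.two_le; simp at h2; omega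
    · exact h
  rw [hv]
  exact Nat.pow_le_pow_right hp.out.pos (by omega)

theorem sup_le_centralizer (x : X) : zpowers x ⊔ center X ≤ centralizer ({x} : Set X) :=
  sup_le (zpowers_le.2 (mem_centralizer_singleton_iff.2 rfl)) (center_le_centralizer _)

theorem exists_cent_sq {n : ℕ} (hX : Nat.card X = p ^ n) (hn : 3 ≤ n) (A : Subgroup X)
    (hA : Nat.card A = p ^ 2) (hC : centralizer (A : Set X) ≤ A) :
    ∃ x ∈ A, Nat.card (centralizer ({x} : Set X)) = p ^ 2 := by
  haveI : IsMulCommutative A := IsPGroup.isMulCommutative_of_card_eq_prime_sq hA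
  have hCA : centralizer (A : Set X) = A := le_antisymm hC (Subgroup.le_centralizer A)
  have hZA : center X ≤ A := (center_le_centralizer _).trans hC
  obtain ⟨x, hxA, hxZ⟩ : ∃ x ∈ A, x ∉ center X := by
    by_contra! hc
    have htop : centralizer (A : Set X) = ⊤ := by
      rw [eq_top_iff]
      exact fun g _ => mem_centralizer_iff.2 fun a ha => ((mem_center_iff.1 (hc a ha)) g).symm
    rw [htop] at hCA
    rw [← hCA, card_top, hX] at hA
    have := Nat.pow_right_injective hp.out.two_le hA
    omega
  refine ⟨x, hxA, ?_⟩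
  have hAeq : zpowers x ⊔ center X = A := Subgroup.eq_of_le_of_card_ge
    (sup_le (zpowers_le.2 hxA) hZA) (hA ▸ sq_le_card_sup hX (by omega) hxZ)
  rw [← hA]
  refine congrArg (fun K : Subgroup X => Nat.card K) (le_antisymm (fun c hc => hC ?_) ?_)
  · have h1 : A ≤ centralizer ({c} : Set X) := by
      rw [← hAeq]
      refine sup_le (zpowers_le.2 ?_) (center_le_centralizer _)
      exact mem_centralizer_singleton_iff.2 (mem_centralizer_singleton_iff.1 hc).symm
    exact mem_centralizer_iff.2 fun a ha => mem_centralizer_singleton_iff.1 (h1 ha)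
  · rw [← hAeq]; exact sup_le_centralizer x

theorem exists_cent_cube {n : ℕ} (hX : Nat.card X = p ^ n) (B : Subgroup X)
    (hB : Nat.card B = p ^ 3) (hBna : ¬ IsMulCommutative B) (hC : centralizer (B : Set X) ≤ B) :
    ∃ x : X, Nat.card (centralizer ({x} : Set X)) = p ^ 2 := by
  classical
  have hG : IsPGroup p X := IsPGroup.of_card hX
  have hn : 3 ≤ n := by
    have := Subgroup.card_le_card_group B
    rw [hB, hX] at this
    exact (Nat.pow_le_pow_iff_right hp.out.one_lt).1 this
  set Z := centralizer (B : Set X) with hZ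
  have hnotB : ¬ B ≤ Z := fun h => hBna ⟨⟨fun a b => Subtype.ext
    ((mem_centralizer_iff.1 (h a.2)) b b.2).symm⟩⟩
  have hzcen : center X ≤ Z := center_le_centralizer _
  have hZcard : Nat.card Z = p := by
    obtain ⟨u, hu⟩ := PGroup.exists_card_eq_pow hG Z
    have h1 := Nat.le_of_dvd Nat.card_pos (card_center_pos_pow (p := p) hX (by omega))
    have h1' : p ≤ p ^ u := hu ▸ h1.trans (Subgroup.card_le_of_le hzcen)
    have h2 : Nat.card Z < Nat.card B := lt_of_le_of_ne (Subgroup.card_le_of_le hC) fun he =>
      hnotB (Subgroup.eq_of_le_of_card_ge hC he.ge).ge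
    rw [hu, hB] at h2
    have h2' := (Nat.pow_lt_pow_iff_right hp.out.one_lt).1 h2
    rcases u with _ | _ | u
    · have := hp.out.two_le; simp at h1'; omega
    · simpa using hu
    · exfalso
      obtain ⟨b, hb, hbZ⟩ := SetLike.not_le_iff_exists.1 hnotB
      have hlt : Nat.card Z < Nat.card (zpowers b ⊔ Z : Subgroup X) := by
        refine lt_of_le_of_ne (Subgroup.card_le_of_le le_sup_right) fun he => hbZ ?_
        rw [Subgroup.eq_of_le_of_card_ge le_sup_right he.ge]
        exact mem_sup_left (mem_zpowers b)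
      obtain ⟨v, hv⟩ := PGroup.exists_card_eq_pow hG (zpowers b ⊔ Z : Subgroup X)
      rw [hv, hu] at hlt
      have h3 := (Nat.pow_lt_pow_iff_right hp.out.one_lt).1 hlt
      have heq : zpowers b ⊔ Z = B := Subgroup.eq_of_le_of_card_ge (sup_le (zpowers_le.2 hb) hC)
        (by rw [hv, hB]; exact Nat.pow_le_pow_right hp.out.pos (by omega))
      apply hbZ
      have hBb : B ≤ centralizer ({b} : Set X) := by
        rw [← heq]
        refine sup_le (zpowers_le.2 (mem_centralizer_singleton_iff.2 rfl)) fun z hz => ?_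
        exact mem_centralizer_singleton_iff.2 ((mem_centralizer_iff.1 hz) b hb).symm
      exact mem_centralizer_iff.2 fun c hc => mem_centralizer_singleton_iff.1 (hBb hc)
  have hZeq : center X = Z := Subgroup.eq_of_le_of_card_ge hzcen
    (hZcard ▸ Nat.le_of_dvd Nat.card_pos (card_center_pos_pow hX (by omega)))
  have hcc : Nat.card (center X) = p := by rw [hZeq]; exact hZcard
  by_cases hn3 : n = 3
  · subst hn3
    obtain ⟨b, hb, hbZ⟩ := SetLike.not_le_iff_exists.1 hnotB
    rw [← hZeq] at hbZ
    refine ⟨b, le_antisymm ?_ ((sq_le_card_sup hX (by omega) hbZ).trans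
      (Subgroup.card_le_of_le (sup_le_centralizer b)))⟩
    obtain ⟨v, hv⟩ := PGroup.exists_card_eq_pow hG (centralizer ({b} : Set X))
    have hlt : p ^ v < p ^ 3 := by
      rw [← hv, ← hX]
      refine lt_of_le_of_ne (Subgroup.card_le_card_group _) fun he => hbZ ?_
      have htop := Subgroup.eq_top_of_card_eq _ he
      exact mem_center_iff.2 fun g => mem_centralizer_singleton_iff.1 (htop ▸ mem_top g)
    have := (Nat.pow_lt_pow_iff_right hp.out.one_lt).1 hlt
    rw [hv]; exact Nat.pow_le_pow_right hp.out.pos (by omega)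
  -- pass to the quotient by the centre
  set π := QuotientGroup.mk' (center X) with hπ
  set A := B.map π with hA
  have hcomap : A.comap π = B := by
    rw [hA, comap_map_eq, QuotientGroup.ker_mk', sup_eq_left.2 (hZeq ▸ hC)]
  have hAcard : Nat.card A = p ^ 2 := by
    have h1 := FG78.card_comap_mk' (center X) A
    rw [← hπ, hcomap, hB, hcc, pow_succ'] at h1
    exact (Nat.eq_of_mul_eq_mul_left hp.out.pos h1).symm
  haveI : IsMulCommutative A := IsPGroup.isMulCommutative_of_card_eq_prime_sq hAcard
  have hcomm : ∀ c : X, π c ∈ centralizer (A : Set (X ⧸ center X)) ↔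
      ∀ b ∈ B, ⁅c, b⁆ ∈ center X := by
    intro c
    rw [mem_centralizer_iff]
    constructor
    · intro h b hb
      apply (QuotientGroup.eq_one_iff _).1
      show π ⁅c, b⁆ = 1
      rw [map_commutatorElement, commutatorElement_eq_one_iff_mul_comm]
      exact (h (π b) (mem_map_of_mem π hb)).symm
    · rintro h _ ⟨b, hb, rfl⟩
      symm
      rw [← commutatorElement_eq_one_iff_mul_comm, ← map_commutatorElement]
      exact (QuotientGroup.eq_one_iff _).2 (h b hb)
  set K := (centralizer (A : Set (X ⧸ center X))).comap π with hK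
  have hBK : B ≤ K := fun b hb => mem_comap.2 (Subgroup.le_centralizer A (mem_map_of_mem π hb))
  obtain ⟨a, ha, haZ⟩ := SetLike.not_le_iff_exists.1 hnotB
  have hB1 : zpowers a ⊔ Z ≤ B := sup_le (zpowers_le.2 ha) hC
  obtain ⟨b, hb, hb'⟩ : ∃ b ∈ B, b ∉ zpowers a ⊔ Z := by
    by_contra! hc
    have heq : zpowers a ⊔ Z = B := le_antisymm hB1 hc
    apply haZ
    have hBa : B ≤ centralizer ({a} : Set X) := by
      rw [← heq]
      exact sup_le (zpowers_le.2 (mem_centralizer_singleton_iff.2 rfl))
        (hZeq ▸ center_le_centralizer _)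
    exact mem_centralizer_iff.2 fun c hc' => mem_centralizer_singleton_iff.1 (hBa hc')
  have hgenB : zpowers b ⊔ (zpowers a ⊔ Z) = B := by
    refine Subgroup.eq_of_le_of_card_ge (sup_le (zpowers_le.2 hb) hB1) ?_
    obtain ⟨u, hu⟩ := PGroup.exists_card_eq_pow hG (zpowers b ⊔ (zpowers a ⊔ Z) : Subgroup X)
    obtain ⟨v, hv⟩ := PGroup.exists_card_eq_pow hG (zpowers a ⊔ Z : Subgroup X)
    have l1 : Nat.card Z < Nat.card (zpowers a ⊔ Z : Subgroup X) := by
      refine lt_of_le_of_ne (Subgroup.card_le_of_le le_sup_right) fun he => haZ ?_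
      rw [Subgroup.eq_of_le_of_card_ge le_sup_right he.ge]
      exact mem_sup_left (mem_zpowers a)
    have l2 : Nat.card (zpowers a ⊔ Z : Subgroup X) <
        Nat.card (zpowers b ⊔ (zpowers a ⊔ Z) : Subgroup X) := by
      refine lt_of_le_of_ne (Subgroup.card_le_of_le le_sup_right) fun he => hb' ?_
      rw [Subgroup.eq_of_le_of_card_ge le_sup_right he.ge]
      exact mem_sup_left (mem_zpowers b)
    rw [hu, hv] at l2
    rw [hZcard, hv] at l1
    have l1' := (Nat.pow_lt_pow_iff_right hp.out.one_lt).1
      (show p ^ 1 < p ^ v by rw [pow_one]; exact l1)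
    have l2' := (Nat.pow_lt_pow_iff_right hp.out.one_lt).1 l2
    rw [hB, hu]
    exact Nat.pow_le_pow_right hp.out.pos (by omega)
  have hKB : K = B := by
    refine (Subgroup.eq_of_le_of_card_ge hBK ?_).symm
    let φ : K → center X × center X := fun c =>
      (⟨⁅(c : X), a⁆, (hcomm c).1 c.2 a ha⟩, ⟨⁅(c : X), b⁆, (hcomm c).1 c.2 b hb⟩)
    haveI : Nonempty K := ⟨1⟩
    let r : center X × center X → K := Function.invFun φ
    have hmem : ∀ c : K, (r (φ c) : X)⁻¹ * (c : X) ∈ Z := by
      intro c
      have e : φ (r (φ c)) = φ c := Function.invFun_eq ⟨c, rfl⟩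
      have e' : ∀ d : X, ⁅(r (φ c) : X), d⁆ = ⁅(c : X), d⁆ →
          (r (φ c) : X)⁻¹ * (c : X) ∈ centralizer ({d} : Set X) := by
        intro d hd
        simp only [commutatorElement_def] at hd
        have hd' := mul_right_cancel hd
        set u := (r (φ c) : X)
        rw [mem_centralizer_singleton_iff]
        calc u⁻¹ * c * d = u⁻¹ * (c * d * (c : X)⁻¹) * c := by group
          _ = u⁻¹ * (u * d * u⁻¹) * c := by rw [hd']
          _ = d * (u⁻¹ * c) := by group
      have ea := e' a (congrArg Subtype.val (congrArg Prod.fst e))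
      have eb := e' b (congrArg Subtype.val (congrArg Prod.snd e))
      set w := (r (φ c) : X)⁻¹ * (c : X)
      have hBw : B ≤ centralizer ({w} : Set X) := by
        rw [← hgenB]
        refine sup_le (zpowers_le.2 ?_) (sup_le (zpowers_le.2 ?_) (hZeq ▸ center_le_centralizer _))
        · exact mem_centralizer_singleton_iff.2 (mem_centralizer_singleton_iff.1 eb).symm
        · exact mem_centralizer_singleton_iff.2 (mem_centralizer_singleton_iff.1 ea).symm
      exact mem_centralizer_iff.2 fun d hd => mem_centralizer_singleton_iff.1 (hBw hd)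
    have hinj : Function.Injective fun c : K => ((φ c, ⟨_, hmem c⟩) : (center X × center X) × Z) := by
      intro c c' hcc
      simp only [Prod.mk.injEq, Subtype.mk.injEq] at hcc
      obtain ⟨h1, h2⟩ := hcc
      rw [h1] at h2
      exact Subtype.ext (mul_left_cancel h2)
    calc Nat.card K ≤ Nat.card ((center X × center X) × Z) := Nat.card_le_card_of_injective _ hinj
      _ = Nat.card B := by rw [Nat.card_prod, Nat.card_prod, hcc, hZcard, hB]; ring
  have hCA : centralizer (A : Set (X ⧸ center X)) ≤ A := by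
    refine le_of_eq ((map_comap_eq_self_of_surjective (QuotientGroup.mk'_surjective _)
      (centralizer (A : Set (X ⧸ center X)))).symm.trans ?_)
    exact (congrArg (Subgroup.map π) hKB : K.map π = A)
  have hq : Nat.card (X ⧸ center X) = p ^ (n - 1) := by
    have h1 := card_eq_card_quotient_mul_card_subgroup (center X)
    rw [hX, hcc] at h1
    have h2 : p ^ n = p ^ (n - 1) * p := by rw [← pow_succ]; congr 1; omega
    exact Nat.eq_of_mul_eq_mul_right hp.out.pos (h1.symm.trans h2)
  obtain ⟨y, hy, hycard⟩ := exists_cent_sq hq (by omega) A hAcard hCA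
  obtain ⟨x, hx, rfl⟩ := hy
  have hxZ : x ∉ center X := by
    intro hxc
    have htop : centralizer ({π x} : Set (X ⧸ center X)) = ⊤ := by
      rw [show π x = 1 from (QuotientGroup.eq_one_iff _).2 hxc, eq_top_iff]
      exact fun g _ => mem_centralizer_singleton_iff.2 (by rw [mul_one, one_mul])
    rw [htop, card_top, hq] at hycard
    have := Nat.pow_right_injective hp.out.two_le hycard
    omega
  have hAy : A = centralizer ({π x} : Set (X ⧸ center X)) := by
    refine Subgroup.eq_of_le_of_card_ge ?_ (by rw [hycard, hAcard])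
    exact fun z hz => mem_centralizer_singleton_iff.2
      ((mem_centralizer_iff.1 (Subgroup.le_centralizer A hz)) (π x) (mem_map_of_mem π hx)).symm
  have hle : centralizer ({x} : Set X) ≤ B := by
    intro c hc
    rw [← hcomap, mem_comap, hAy, mem_centralizer_singleton_iff, ← map_mul, ← map_mul,
      mem_centralizer_singleton_iff.1 hc]
  refine ⟨x, le_antisymm ?_ ((sq_le_card_sup hX (by omega) hxZ).trans
    (Subgroup.card_le_of_le (sup_le_centralizer x)))⟩
  obtain ⟨v, hv⟩ := PGroup.exists_card_eq_pow hG (centralizer ({x} : Set X))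
  have hlt : p ^ v < p ^ 3 := by
    rw [← hv, ← hB]
    refine lt_of_le_of_ne (Subgroup.card_le_of_le hle) fun he => hxZ ?_
    have heq := Subgroup.eq_of_le_of_card_ge hle he.ge
    rw [hZeq]
    exact mem_centralizer_iff.2 fun c hc => mem_centralizer_singleton_iff.1 (heq.ge hc)
  have := (Nat.pow_lt_pow_iff_right hp.out.one_lt).1 hlt
  rw [hv]; exact Nat.pow_le_pow_right hp.out.pos (by omega)

end Cfsg.Agent.SectRank81
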