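import Cfsg.Agent.SectRank81.Symbol
import Cfsg.Agent.FG78.MaximalClass
import Cfsg.Agent.Lib.PGroup.Basic

/-!
A `p`-group with an element whose centraliser has order `p ^ 2` has maximal class, and each of its
subgroups can be generated by at most `p` elements.
-/

set_option autoImplicit false
set_option linter.unusedSectionVars false
set_option linter.style.haveILetI false

namespace Cfsg.Agent.SectRank81

open Subgroup FG38
open scoped commutatorElement

variable {G : Type*} [Group G]

theorem card_eq_relIndex_mul (N A : Subgroup G) :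
    Nat.card A = N.relIndex A * Nat.card (A ⊓ N : Subgroup G) := by
  have h := (N.subgroupOf A).card_mul_index
  have e : Nat.card (N.subgroupOf A) = Nat.card (A ⊓ N : Subgroup G) := by
    rw [← inf_subgroupOf_right, inf_comm]
    exact Nat.card_congr (subgroupOfEquivOfLe inf_le_left).toEquiv
  rw [e] at h
  rw [← h, mul_comm]; rfl

theorem filt_succ_eq (i : ℕ) (hi : 1 ≤ i) : filt G (i + 1) = ⁅filt G i, (⊤ : Subgroup G)⁆ := by
  obtain ⟨j, rfl⟩ := Nat.exists_eq_add_of_le hi
  simp only [filt, show 1 + j + 1 - 1 = j + 1 by omega, show 1 + j - 1 = j by omega]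
  rfl

theorem filt_two : filt G 2 = _root_.commutator G := top_lowerCentralSeries_one

theorem filt_eq_bot_of_le [Group.IsNilpotent G] {i : ℕ} (hi : 1 ≤ i)
    (h : filt G i ≤ filt G (i + 1)) : filt G i = ⊥ := by
  have key : ∀ k, filt G i ≤ filt G (i + k) := by
    intro k
    induction k with
    | zero => exact le_rfl
    | succ k ih =>
      refine h.trans ?_
      rw [filt_succ_eq i hi, ← add_assoc, filt_succ_eq (i + k) (by omega)]
      exact commutator_mono ih le_rfl
  obtain ⟨m, hm⟩ := Subgroup.nilpotent_iff_lowerCentralSeries.1 (inferInstance : Group.IsNilpotent G)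
  rw [eq_bot_iff, ← hm]
  exact (key (m + 1)).trans (Subgroup.lowerCentralSeries_antitone _ (by omega))

/-- Hall–Petrescu in class less than `p` with derived subgroup of exponent `p`. -/
theorem mul_pow_prime {H : Type*} [Group H] [Finite H] {p : ℕ} (hp : p.Prime)
    (hcl : (⊤ : Subgroup H).lowerCentralSeries (p - 1) = ⊥)
    (hexp : ∀ z ∈ _root_.commutator H, z ^ p = 1) (u v : H) : (u * v) ^ p = u ^ p * v ^ p := by
  have hN : filt H p = ⊥ := hcl
  have hexp2 : ∀ z ∈ filt H 2, z ^ p = 1 := fun z hz => hexp z (top_lowerCentralSeries_one (G := H) ▸ hz)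
  have hcl' := polyClosed hN 0
  have hP : ∀ z : H, IsPoly 0 (fun n => z ^ n) := isPoly_pow
  have hf := (hcl'.1 0 le_rfl _ _ ((hcl'.1 0 le_rfl _ _ (hP (u * v))
    (hcl'.1 0 le_rfl _ _ (hP v) (hP v)).2).1) (hcl'.1 0 le_rfl _ _ (hP u) (hP u)).2).1
  have := isPoly_apply_prime hp hN hexp2 hf (by simp) (by simp [mul_assoc])
  simp only [Pi.mul_apply, Pi.inv_apply] at this
  rw [mul_inv_eq_one] at this
  rw [← this, inv_mul_cancel_right]

/-- An element with centraliser of order `p ^ 2` in a group of order `p ^ n`, `n ≥ 3`. -/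
structure Cfg (p n : ℕ) (x : G) : Prop where
  card : Nat.card G = p ^ n
  three : 3 ≤ n
  cent : Nat.card (centralizer ({x} : Set G)) = p ^ 2

namespace Cfg

variable [Finite G] {p n : ℕ} [hp : Fact p.Prime] {x : G} (h : Cfg p n x)
include h

theorem isPGroup : IsPGroup p G := IsPGroup.of_card h.card

theorem isNilpotent : Group.IsNilpotent G := h.isPGroup.isNilpotent

theorem not_comm : ¬ ∀ a b : G, a * b = b * a := by
  intro hc
  have htop : centralizer ({x} : Set G) = ⊤ := by
    rw [eq_top_iff]; exact fun g _ => mem_centralizer_singleton_iff.2 (hc g x)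
  have := h.cent
  rw [htop, card_top, h.card] at this
  have := Nat.pow_right_injective hp.out.two_le this
  have := h.three
  omega

theorem card_le_of_comm_mem (T : Subgroup G) (N : Set G) (hT : ∀ g ∈ T, ⁅g, x⁆ ∈ N) :
    Nat.card T ≤ Nat.card N * p ^ 2 := by
  let φ : T → N := fun g => ⟨⁅(g : G), x⁆, hT g g.2⟩
  let C := centralizer ({x} : Set G)
  haveI : Nonempty T := ⟨1⟩
  let r : N → T := Function.invFun φ
  have hC : ∀ g : T, (r (φ g) : G)⁻¹ * (g : G) ∈ C := by
    intro g
    have e : φ (r (φ g)) = φ g := Function.invFun_eq ⟨g, rfl⟩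
    have e2 : (r (φ g) : G) * x * (r (φ g) : G)⁻¹ = (g : G) * x * (g : G)⁻¹ := by
      have := congrArg Subtype.val e
      simp only [φ, commutatorElement_def] at this
      exact mul_right_cancel this
    set u := (r (φ g) : G)
    rw [mem_centralizer_singleton_iff]
    calc u⁻¹ * g * x = u⁻¹ * (g * x * (g : G)⁻¹) * g := by group
      _ = u⁻¹ * (u * x * u⁻¹) * g := by rw [e2]
      _ = x * (u⁻¹ * g) := by group
  have hinj : Function.Injective fun g : T => ((φ g, ⟨_, hC g⟩) : N × C) := by
    intro g g' hg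
    simp only [Prod.mk.injEq, Subtype.mk.injEq] at hg
    obtain ⟨h1, h2⟩ := hg
    rw [h1] at h2
    exact Subtype.ext (mul_left_cancel h2)
  calc Nat.card T ≤ Nat.card (N × C) := Nat.card_le_card_of_injective _ hinj
    _ = Nat.card N * p ^ 2 := by rw [Nat.card_prod, show Nat.card C = p ^ 2 from h.cent]

theorem quot_centralizer_le (N : Subgroup G) [N.Normal] :
    Nat.card (centralizer ({QuotientGroup.mk' N x} : Set (G ⧸ N))) ≤ p ^ 2 := by
  set C' := centralizer ({QuotientGroup.mk' N x} : Set (G ⧸ N))
  have h1 := h.card_le_of_comm_mem (C'.comap (QuotientGroup.mk' N)) (N : Set G) (fun g hg => by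
    rw [mem_comap, mem_centralizer_singleton_iff, ← commutatorElement_eq_one_iff_mul_comm,
      ← map_commutatorElement] at hg
    exact (QuotientGroup.eq_one_iff _).1 hg)
  rw [FG78.card_comap_mk'] at h1
  exact Nat.le_of_mul_le_mul_left h1 Nat.card_pos

theorem card_commutator : Nat.card (filt G 2) = p ^ (n - 2) := by
  have hp2 := hp.out.two_le
  haveI := h.isNilpotent
  obtain ⟨m, hm⟩ := PGroup.exists_card_eq_pow h.isPGroup (filt G 2)
  have hge : p ^ n ≤ p ^ (m + 2) := by
    have h1 := h.card_le_of_comm_mem ⊤ (filt G 2 : Set G) (fun g _ =>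
      commutator_mem_commutator (H₁ := (⊤ : Subgroup G)) (H₂ := ⊤) (mem_top g) (mem_top x))
    rw [card_top, h.card, show Nat.card (filt G 2 : Set G) = p ^ m from hm, ← pow_add] at h1
    exact h1
  have hge' := (Nat.pow_le_pow_iff_right hp.out.one_lt).1 hge
  have hle : m + 2 ≤ n := by
    by_contra hlt
    apply h.not_comm
    have hidx : (filt G 2).index ≤ p := by
      have h1 := (filt G 2).card_mul_index
      rw [hm, h.card] at h1
      have : p ^ m * (filt G 2).index ≤ p ^ m * p := by
        rw [h1, ← pow_succ]; exact Nat.pow_le_pow_right hp.out.pos (by omega)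
      exact Nat.le_of_mul_le_mul_left this (pow_pos hp.out.pos m)
    haveI : IsCyclic G := PGroup.isCyclic_of_index_frattini_le h.isPGroup
      ((Nat.le_of_dvd (Nat.pos_of_ne_zero (Subgroup.index_ne_zero_of_finite))
        (Subgroup.index_dvd_of_le (filt_two (G := G) ▸ PGroup.commutator_le_frattini h.isPGroup))).trans hidx)
    intro a b
    exact IsMulCommutative.is_comm.comm a b
  rw [hm]; congr 1; omega

theorem x_not_mem : x ∉ filt G 2 := by
  intro hx
  haveI := h.isNilpotent
  have h1 := h.card_le_of_comm_mem ⊤ (filt G 3 : Set G) (fun g _ => by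
    rw [SetLike.mem_coe, ← inv_mem_iff (H := filt G 3), commutatorElement_inv]
    exact filt_commutator 2 1 (commutator_mem_commutator hx (by trivial)))
  have hle : filt G 2 ≤ filt G 3 := by
    refine (Subgroup.eq_of_le_of_card_ge (filt_antitone (by omega)) ?_).ge
    rw [card_top, h.card, SetLike.coe_sort_coe] at h1
    rw [h.card_commutator]
    have : p ^ (n - 2) * p ^ 2 ≤ Nat.card (filt G 3) * p ^ 2 := by
      rw [← pow_add, Nat.sub_add_cancel (by have := h.three; omega)]; exact h1
    exact Nat.le_of_mul_le_mul_right this (pow_pos hp.out.pos 2)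
  have h2 := filt_eq_bot_of_le (by omega : 1 ≤ 2) hle
  have := h.card_commutator
  rw [h2, card_bot] at this
  have hn := Nat.pow_right_injective hp.out.two_le (this.symm.trans (pow_zero p).symm)
  have := h.three
  omega

theorem map_filt_le_cent {i : ℕ} (hi : 1 ≤ i) :
    (filt G i).map (QuotientGroup.mk' (filt G (i + 1))) ≤
      centralizer ({QuotientGroup.mk' (filt G (i + 1)) x} : Set (G ⧸ filt G (i + 1))) := by
  rintro _ ⟨u, hu, rfl⟩
  rw [mem_centralizer_singleton_iff, ← commutatorElement_eq_one_iff_mul_comm,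
    ← map_commutatorElement]
  refine (QuotientGroup.eq_one_iff _).2 ?_
  rw [filt_succ_eq i hi]
  exact commutator_mem_commutator hu (mem_top x)

theorem card_map_lt {i : ℕ} (hi : 2 ≤ i) {N : Subgroup G} [N.Normal] (hN : N ≤ filt G i)
    (hc : (filt G i).map (QuotientGroup.mk' N) ≤
      centralizer ({QuotientGroup.mk' N x} : Set (G ⧸ N))) :
    Nat.card (filt G i) < Nat.card N * p ^ 2 := by
  set F := (filt G i).map (QuotientGroup.mk' N) with hF
  have hcom : F.comap (QuotientGroup.mk' N) = filt G i := by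
    rw [hF, comap_map_eq, QuotientGroup.ker_mk', sup_eq_left.2 hN]
  have hlt : Nat.card F < p ^ 2 := by
    refine lt_of_le_of_ne ((Subgroup.card_le_of_le hc).trans (h.quot_centralizer_le N)) fun he => ?_
    have heq := Subgroup.eq_of_le_of_card_ge hc (he ▸ h.quot_centralizer_le N)
    have hx : x ∈ F.comap (QuotientGroup.mk' N) := by
      rw [mem_comap, heq]; exact mem_centralizer_singleton_iff.2 rfl
    rw [hcom] at hx
    exact h.x_not_mem (filt_antitone hi hx)
  rw [← hcom, FG78.card_comap_mk']
  exact Nat.mul_lt_mul_of_pos_left hlt Nat.card_pos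

/-- The orders of the terms of the lower central series. -/
theorem card_filt : ∀ i, 2 ≤ i → i ≤ n → Nat.card (filt G i) = p ^ (n - i) := by
  intro i hi
  induction i, hi using Nat.le_induction with
  | base => intro _; exact h.card_commutator
  | succ i hi ih =>
    intro hin
    haveI := h.isNilpotent
    have hc := ih (by omega)
    obtain ⟨m, hm⟩ := PGroup.exists_card_eq_pow h.isPGroup (filt G (i + 1))
    have h1 := h.card_map_lt hi (filt_antitone (Nat.le_succ i)) (h.map_filt_le_cent (by omega))
    rw [hc, hm, ← pow_add] at h1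
    have h1' := (Nat.pow_lt_pow_iff_right hp.out.one_lt).1 h1
    have h2 : m < n - i := by
      by_contra hcon
      have := Subgroup.eq_of_le_of_card_ge (filt_antitone (G := G) (Nat.le_succ i))
        (by rw [hc, hm]; exact Nat.pow_le_pow_right hp.out.pos (by omega))
      have h3 := filt_eq_bot_of_le (show 1 ≤ i by omega) this.ge
      rw [h3, card_bot] at hc
      have := Nat.pow_right_injective hp.out.two_le (hc.symm.trans (pow_zero p).symm)
      omega
    rw [hm]; congr 1; omega

theorem filt_n : filt G n = ⊥ := by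
  refine Subgroup.eq_bot_of_card_eq _ ?_
  rw [h.card_filt n (by have := h.three; omega) le_rfl, Nat.sub_self, pow_zero]

theorem maximal_class : (⊤ : Subgroup G).lowerCentralSeries (n - 2) ≠ ⊥ := by
  have h3 := h.three
  intro he
  have h1 := h.card_filt (n - 1) (by omega) (by omega)
  rw [filt, show n - 1 - 1 = n - 2 by omega, he, card_bot] at h1
  have := Nat.pow_right_injective hp.out.two_le (h1.symm.trans (pow_zero p).symm)
  omega

theorem pow_p_mem_succ {i : ℕ} (hi : 2 ≤ i) {v : G} (hv : v ∈ filt G i) :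
    v ^ p ∈ filt G (i + 1) := by
  by_cases hin : n ≤ i
  · have := filt_antitone (G := G) hin hv
    rw [h.filt_n, mem_bot] at this
    rw [this, one_pow]; exact one_mem _
  have hr := card_eq_relIndex_mul (filt G (i + 1)) (filt G i)
  rw [inf_eq_right.2 (filt_antitone (Nat.le_succ i)), h.card_filt i hi (by omega),
    h.card_filt (i + 1) (by omega) (by omega), show n - i = n - (i + 1) + 1 by omega, pow_succ,
    mul_comm] at hr
  have hidx : ((filt G (i + 1)).subgroupOf (filt G i)).index = p :=
    (Nat.eq_of_mul_eq_mul_right (pow_pos hp.out.pos _) hr).symm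
  haveI : ((filt G (i + 1)).subgroupOf (filt G i)).Normal := inferInstance
  have h1 : (QuotientGroup.mk' ((filt G (i + 1)).subgroupOf (filt G i)) ⟨v, hv⟩) ^ p = 1 := by
    rw [← hidx, index_eq_card]; exact pow_card_eq_one'
  rw [← map_pow] at h1
  exact mem_subgroupOf.1 ((QuotientGroup.eq_one_iff _).1 h1)

theorem dl_not_mem {i : ℕ} (hi : 2 ≤ i) (hin : i + 2 ≤ n) {b : G} (hb : b ∈ filt G i)
    (hb' : b ∉ filt G (i + 1)) : dl x b ∉ filt G (i + 2) := by
  intro hd
  set π := QuotientGroup.mk' (filt G (i + 2))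
  set T := filt G i ⊓ (centralizer ({π x} : Set (G ⧸ filt G (i + 2)))).comap π with hT
  have hmem : ∀ v : G, ⁅v⁻¹, x⁆ ∈ filt G (i + 2) → π v ∈ centralizer ({π x} : Set _) := by
    intro v hv
    rw [← inv_mem_iff, ← map_inv, mem_centralizer_singleton_iff,
      ← commutatorElement_eq_one_iff_mul_comm, ← map_commutatorElement]
    exact (QuotientGroup.eq_one_iff _).2 hv
  have hle : filt G (i + 1) ≤ T := fun v hv =>
    mem_inf.2 ⟨filt_antitone (Nat.le_succ i) hv, mem_comap.2 (hmem v
      (filt_commutator (i + 1) 1 (commutator_mem_commutator (inv_mem hv) (by trivial))))⟩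
  have hbT : b ∈ T := mem_inf.2 ⟨hb, mem_comap.2 (hmem b (dl_eq x b ▸ hd))⟩
  have hTeq : T = filt G i := by
    refine Subgroup.eq_of_le_of_card_ge inf_le_left ?_
    obtain ⟨m, hm⟩ := PGroup.exists_card_eq_pow h.isPGroup T
    have h1 : Nat.card (filt G (i + 1)) < Nat.card T := by
      refine lt_of_le_of_ne (Subgroup.card_le_of_le hle) fun he => hb' ?_
      rwa [Subgroup.eq_of_le_of_card_ge hle he.ge]
    rw [hm, h.card_filt _ (by omega) (by omega)] at h1
    have := (Nat.pow_lt_pow_iff_right hp.out.one_lt).1 h1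
    rw [hm, h.card_filt i hi (by omega)]
    exact Nat.pow_le_pow_right hp.out.pos (by omega)
  have h1 := h.card_map_lt hi (N := filt G (i + 2)) (filt_antitone (by omega)) (by
    rw [map_le_iff_le_comap]; exact hTeq ▸ inf_le_right)
  rw [h.card_filt i hi (by omega), h.card_filt _ (by omega) hin, ← pow_add] at h1
  have := (Nat.pow_lt_pow_iff_right hp.out.one_lt).1 h1
  omega

theorem dl_iter_not_mem {i : ℕ} (hi : 2 ≤ i) {b : G} (hb : b ∈ filt G i) (hb' : b ∉ filt G (i + 1)) :
    ∀ j, i + j + 1 ≤ n → (dl x)^[j] b ∉ filt G (i + j + 1) := by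
  intro j
  induction j with
  | zero => intro _; exact hb'
  | succ j ih =>
    intro hj
    rw [Function.iterate_succ_apply', show i + (j + 1) + 1 = i + j + 2 by omega]
    exact h.dl_not_mem (show 2 ≤ i + j by omega) (show i + j + 2 ≤ n by omega) (dl_iter_mem x hb j)
      (ih (by omega))

theorem center_le_cent : center G ≤ centralizer ({x} : Set G) := center_le_centralizer _

theorem card_center : Nat.card (center G) = p := by
  haveI : Nontrivial G := Finite.one_lt_card_iff_nontrivial.1 (by
    rw [h.card]; exact Nat.one_lt_pow (by have := h.three; omega) hp.out.one_lt)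
  obtain ⟨m, hm⟩ := PGroup.exists_card_eq_pow h.isPGroup (center G)
  have h1 : p ≤ p ^ m := hm ▸ Nat.le_of_dvd Nat.card_pos (PGroup.dvd_card_center h.isPGroup)
  have hlt : Nat.card (center G) < p ^ 2 := by
    refine lt_of_le_of_ne (h.cent ▸ Subgroup.card_le_of_le h.center_le_cent) fun he => h.not_comm ?_
    have heq := Subgroup.eq_of_le_of_card_ge h.center_le_cent (by rw [he, h.cent])
    have hxc : x ∈ center G := heq ▸ mem_centralizer_singleton_iff.2 rfl
    have htop : centralizer ({x} : Set G) = ⊤ := by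
      rw [eq_top_iff]; exact fun g _ => mem_centralizer_singleton_iff.2 (mem_center_iff.1 hxc g)
    rw [htop, eq_top_iff] at heq
    exact fun a b => (mem_center_iff.1 (heq (mem_top b)) a)
  rw [hm] at hlt ⊢
  have h2 := (Nat.pow_lt_pow_iff_right hp.out.one_lt).1 hlt
  rcases m with _ | _ | m
  · have := hp.out.two_le; simp at h1; omega
  · simp
  · omega

theorem center_eq : center G = filt G (n - 1) := by
  have h3 := h.three
  refine (Subgroup.eq_of_le_of_card_ge (fun z hz => mem_center_iff.2 fun g => ?_) ?_).symm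
  · symm
    rw [← commutatorElement_eq_one_iff_mul_comm]
    have h1 : ⁅z, g⁆ ∈ filt G (n - 1 + 1) :=
      filt_commutator (n - 1) 1 (commutator_mem_commutator hz (by trivial))
    rwa [show n - 1 + 1 = n by omega, h.filt_n, mem_bot] at h1
  · rw [h.card_center, h.card_filt (n - 1) (by omega) (by omega), show n - (n - 1) = 1 by omega,
      pow_one]

theorem x_pow_mem_center : x ^ p ∈ center G := by
  have hr := card_eq_relIndex_mul (center G) (centralizer ({x} : Set G))
  rw [inf_eq_right.2 h.center_le_cent, h.cent, h.card_center, pow_two] at hr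
  have hidx : ((center G).subgroupOf (centralizer ({x} : Set G))).index = p :=
    (Nat.eq_of_mul_eq_mul_right hp.out.pos hr).symm
  haveI : ((center G).subgroupOf (centralizer ({x} : Set G))).Normal := inferInstance
  have h1 : (QuotientGroup.mk' ((center G).subgroupOf (centralizer ({x} : Set G)))
      ⟨x, mem_centralizer_singleton_iff.2 rfl⟩) ^ p = 1 := by
    rw [← hidx, index_eq_card]; exact pow_card_eq_one'
  rw [← map_pow] at h1
  exact mem_subgroupOf.1 ((QuotientGroup.eq_one_iff _).1 h1)

theorem exists_conj {a : G} (ha : a ∈ filt G 2) : ∃ g : G, a * x = g * x * g⁻¹ := by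
  have h3 := h.three
  set R := Set.range fun g : G => ⁅g, x⁆ with hR
  have hsub : R ⊆ (filt G 2 : Set G) := by
    rintro _ ⟨g, rfl⟩
    exact commutator_mem_commutator (H₁ := (⊤ : Subgroup G)) (H₂ := ⊤) (mem_top g) (mem_top x)
  have h1 := h.card_le_of_comm_mem ⊤ R (fun g _ => ⟨g, rfl⟩)
  rw [card_top, h.card] at h1
  have hge : Nat.card (filt G 2) ≤ R.ncard := by
    rw [h.card_commutator, ← Nat.card_coe_set_eq]
    refine Nat.le_of_mul_le_mul_right ?_ (pow_pos hp.out.pos 2)
    rw [← pow_add, Nat.sub_add_cancel (by omega)]; exact h1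
  have heq : R = (filt G 2 : Set G) := Set.eq_of_subset_of_ncard_le hsub
    (by rw [← Nat.card_coe_set_eq]; exact hge)
  obtain ⟨g, hg⟩ : a ∈ R := heq ▸ ha
  exact ⟨g, by rw [← hg]; simp [commutatorElement_def]⟩

theorem cfg_pow {m : ℕ} (hm : ¬ p ∣ m) : Cfg p n (x ^ m) := by
  refine ⟨h.card, h.three, ?_⟩
  rw [← h.cent]
  obtain ⟨k, hk⟩ := h.isPGroup.exists_orderOf_eq_pow x
  obtain ⟨l, hl⟩ := exists_pow_eq_self_of_coprime (x := x) (n := m) (by
    rw [hk]; exact Nat.Coprime.pow_right k ((hp.out.coprime_iff_not_dvd.2 hm).symm))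
  congr 2
  ext g
  simp only [mem_centralizer_singleton_iff]
  refine ⟨fun hg => ?_, fun hg => (Commute.pow_right (show Commute g x from hg) m).eq⟩
  have := (Commute.pow_right (show Commute g (x ^ m) from hg) l).eq
  rwa [hl] at this

theorem pow_conj {a : G} (ha : a ∈ filt G 2) {m : ℕ} (hm : ¬ p ∣ m) :
    (a * x ^ m) ^ p = (x ^ m) ^ p := by
  obtain ⟨g, hg⟩ := (h.cfg_pow hm).exists_conj ha
  have hc := mem_center_iff.1 (h.cfg_pow hm).x_pow_mem_center g
  rw [hg, conj_pow, hc, mul_inv_cancel_right]

theorem lcs_le {i : ℕ} (hi : 2 ≤ i) : ∀ k, 1 ≤ k →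
    (zpowers x ⊔ filt G i).lowerCentralSeries k ≤ filt G (i + k) := by
  intro k hk
  induction k, hk using Nat.le_induction with
  | base =>
    rw [Subgroup.lowerCentralSeries_succ, Subgroup.lowerCentralSeries_zero, commutator_le]
    intro u hu v hv
    obtain ⟨u₁, hu₁, u₂, hu₂, rfl⟩ := mem_sup_of_normal_right.1 hu
    obtain ⟨v₁, hv₁, v₂, hv₂, rfl⟩ := mem_sup_of_normal_right.1 hv
    obtain ⟨s, rfl⟩ := mem_zpowers_iff.1 hu₁
    obtain ⟨t, rfl⟩ := mem_zpowers_iff.1 hv₁
    refine (QuotientGroup.eq_one_iff _).1 ?_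
    show QuotientGroup.mk' (filt G (i + 1)) ⁅x ^ s * u₂, x ^ t * v₂⁆ = 1
    rw [map_commutatorElement, commutatorElement_eq_one_iff_mul_comm, map_mul, map_mul]
    have hcen : ∀ w ∈ filt G i, ∀ g : G,
        Commute (QuotientGroup.mk' (filt G (i + 1)) w) (QuotientGroup.mk' (filt G (i + 1)) g) := by
      intro w hw g
      show _ = _
      rw [← commutatorElement_eq_one_iff_mul_comm, ← map_commutatorElement]
      exact (QuotientGroup.eq_one_iff _).2 (filt_commutator i 1 (commutator_mem_commutator hw (by trivial)))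
    refine (Commute.mul_left (Commute.mul_right ?_ (hcen v₂ hv₂ _).symm) ?_).eq
    · exact (Commute.zpow_zpow_self x s t).map _
    · rw [← map_mul]; exact hcen u₂ hu₂ _
  | succ k hk ih =>
    rw [Subgroup.lowerCentralSeries_succ]
    refine (commutator_mono ih le_top).trans ?_
    rw [← add_assoc, filt_succ_eq (i + k) (by omega)]

/-- The image of `⟨x⟩ γᵢ` modulo a term of the series. -/
theorem map_lcs_le {i : ℕ} (hi : 2 ≤ i) (N : Subgroup G) [N.Normal] (k : ℕ) (hk : 1 ≤ k)
    (z : ((zpowers x ⊔ filt G i).map (QuotientGroup.mk' N) : Subgroup (G ⧸ N)))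
    (hz : z ∈ (⊤ : Subgroup ((zpowers x ⊔ filt G i).map (QuotientGroup.mk' N) :
      Subgroup (G ⧸ N))).lowerCentralSeries k) :
    ∃ w ∈ filt G (i + k), QuotientGroup.mk' N w = z := by
  have h1 := mem_map_of_mem (Subgroup.subtype _) hz
  rw [top_subtype_lowerCentralSeries, ← map_lowerCentralSeries] at h1
  obtain ⟨w, hw, e⟩ := h1
  exact ⟨w, h.lcs_le hi k hk hw, e⟩

theorem pow_p_mem : ∀ d i, i + d = n → 2 ≤ i → ∀ a ∈ filt G i, ∀ j, j ≤ n - 1 → j ≤ i + p - 1 →
    a ^ p ∈ filt G j := by
  intro d
  induction d with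
  | zero =>
    intro i hi _ a ha j _ _
    rw [add_zero] at hi
    subst hi
    rw [h.filt_n, mem_bot] at ha
    rw [ha, one_pow]; exact one_mem _
  | succ d ih =>
    intro i hid hi a ha j hj1 hj2
    have hp2 := hp.out.two_le
    set π := QuotientGroup.mk' (filt G j) with hπ
    set W : Subgroup (G ⧸ filt G j) := (zpowers x ⊔ filt G i).map π with hW
    have hx0 : π x ^ p = 1 := by
      rw [← map_pow]
      exact (QuotientGroup.eq_one_iff _).2 (filt_antitone hj1 (h.center_eq ▸ h.x_pow_mem_center))
    have hax : a * x ∈ zpowers x ⊔ filt G i :=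
      mul_mem (mem_sup_right ha) (mem_sup_left (mem_zpowers x))
    let u : W := ⟨π (a * x), mem_map_of_mem π hax⟩
    let v : W := ⟨π x⁻¹, mem_map_of_mem π (mem_sup_left (inv_mem (mem_zpowers x)))⟩
    have hcl : (⊤ : Subgroup W).lowerCentralSeries (p - 1) = ⊥ := by
      rw [eq_bot_iff]
      intro z hz
      obtain ⟨w, hw, e⟩ := h.map_lcs_le hi (filt G j) (p - 1) (by omega) z hz
      rw [mem_bot]
      apply Subtype.ext
      rw [Subgroup.coe_one, ← e]
      exact (QuotientGroup.eq_one_iff _).2 (filt_antitone (by omega) hw)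
    have hexp : ∀ z ∈ _root_.commutator W, z ^ p = 1 := by
      intro z hz
      rw [← top_lowerCentralSeries_one] at hz
      obtain ⟨w, hw, e⟩ := h.map_lcs_le hi (filt G j) 1 le_rfl z hz
      apply Subtype.ext
      rw [SubmonoidClass.coe_pow, Subgroup.coe_one, ← e, ← map_pow]
      exact (QuotientGroup.eq_one_iff _).2 (ih (i + 1) (by omega) (by omega) w hw j hj1 (by omega))
    have hu : u ^ p = 1 := by
      apply Subtype.ext
      show π (a * x) ^ p = 1
      have := h.pow_conj (filt_antitone hi ha) (m := 1) (by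
        rw [Nat.dvd_one]; exact hp.out.ne_one)
      rw [pow_one] at this
      rw [← map_pow, this, map_pow, hx0]
    have hv : v ^ p = 1 := by
      apply Subtype.ext
      show π x⁻¹ ^ p = 1
      rw [map_inv, inv_pow, hx0, inv_one]
    have h1 := congrArg Subtype.val (mul_pow_prime_eq_one hp.out hcl hexp hu hv)
    simp only [SubmonoidClass.coe_pow, Subgroup.coe_mul, Subgroup.coe_one, u, v, ← map_mul,
      mul_inv_cancel_right, ← map_pow] at h1
    exact (QuotientGroup.eq_one_iff _).1 h1

/-- The bottom `p - 1` terms of the series have exponent `p`. -/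
theorem pow_p_eq_one : ∀ d i, i + d = n → 2 ≤ i → d ≤ p - 1 → ∀ a ∈ filt G i, a ^ p = 1 := by
  intro d
  induction d with
  | zero =>
    intro i hi _ _ a ha
    rw [add_zero] at hi
    subst hi
    rw [h.filt_n, mem_bot] at ha
    rw [ha, one_pow]
  | succ d ih =>
    intro i hid hi hd a ha
    set W : Subgroup G := zpowers x ⊔ filt G i with hW
    have hax : a * x ∈ W := mul_mem (mem_sup_right ha) (mem_sup_left (mem_zpowers x))
    let u : W := ⟨a * x, hax⟩
    let v : W := ⟨x⁻¹, mem_sup_left (inv_mem (mem_zpowers x))⟩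
    have hlcs : ∀ k, 1 ≤ k → ∀ z ∈ (⊤ : Subgroup W).lowerCentralSeries k, (z : G) ∈ filt G (i + k) := by
      intro k hk z hz
      have h1 := mem_map_of_mem W.subtype hz
      rw [top_subtype_lowerCentralSeries] at h1
      exact h.lcs_le hi k hk h1
    have hcl : (⊤ : Subgroup W).lowerCentralSeries (p - 1) = ⊥ := by
      rw [eq_bot_iff]
      intro z hz
      have hp2 := hp.out.two_le
      have h1 := filt_antitone (show n ≤ i + (p - 1) by omega) (hlcs (p - 1) (by omega) z hz)
      rw [h.filt_n, mem_bot] at h1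
      exact mem_bot.2 (Subtype.ext h1)
    have hexp : ∀ z ∈ _root_.commutator W, z ^ p = 1 := by
      intro z hz
      rw [← top_lowerCentralSeries_one] at hz
      apply Subtype.ext
      rw [SubmonoidClass.coe_pow, Subgroup.coe_one]
      exact ih (i + 1) (by omega) (by omega) (by omega) _ (hlcs 1 le_rfl z hz)
    have h1 := congrArg Subtype.val (mul_pow_prime hp.out hcl hexp u v)
    have h2 := h.pow_conj (filt_antitone hi ha) (m := 1) (by rw [Nat.dvd_one]; exact hp.out.ne_one)
    rw [pow_one] at h2
    simp only [SubmonoidClass.coe_pow, Subgroup.coe_mul, u, v, mul_inv_cancel_right, h2, inv_pow,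
      mul_inv_cancel] at h1
    exact h1

theorem pow_p_not_mem {i : ℕ} (hi : 2 ≤ i) (hin : i + p ≤ n) {a : G} (ha : a ∈ filt G i)
    (ha' : a ∉ filt G (i + 1)) : a ^ p ∉ filt G (i + p) := by
  intro hap
  have hp2 := hp.out.two_le
  set π := QuotientGroup.mk' (filt G (i + p)) with hπ
  set W : Subgroup (G ⧸ filt G (i + p)) := (zpowers x ⊔ filt G i).map π with hW
  let a' : W := ⟨π a, mem_map_of_mem π (mem_sup_right ha)⟩
  let x' : W := ⟨π x, mem_map_of_mem π (mem_sup_left (mem_zpowers x))⟩
  have hN : filt W (p + 1) = ⊥ := by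
    rw [eq_bot_iff]
    intro z hz
    obtain ⟨w, hw, e⟩ := h.map_lcs_le hi (filt G (i + p)) p (by omega) z hz
    rw [mem_bot]
    apply Subtype.ext
    rw [Subgroup.coe_one, ← e]
    exact (QuotientGroup.eq_one_iff _).2 hw
  have hB : ∀ z ∈ filt W p, z ^ p = 1 := by
    intro z hz
    obtain ⟨w, hw, e⟩ := h.map_lcs_le hi (filt G (i + p)) (p - 1) (by omega) z hz
    apply Subtype.ext
    rw [SubmonoidClass.coe_pow, Subgroup.coe_one, ← e, ← map_pow]
    have := h.pow_p_mem_succ (i := i + (p - 1)) (by omega) hw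
    rw [show i + (p - 1) + 1 = i + p by omega] at this
    exact (QuotientGroup.eq_one_iff _).2 this
  have hh : ∀ m < p, (a' * x' ^ m) ^ p = (x' ^ m) ^ p := by
    intro m hm
    apply Subtype.ext
    simp only [SubmonoidClass.coe_pow, Subgroup.coe_mul, a', x', ← map_pow, ← map_mul]
    rcases Nat.eq_zero_or_pos m with rfl | hm0
    · simp only [pow_zero, mul_one, one_pow, map_one]
      exact (QuotientGroup.eq_one_iff _).2 hap
    · rw [h.pow_conj (filt_antitone hi ha)
        (fun hd => absurd (Nat.le_of_dvd hm0 hd) (not_le.2 hm))]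
  have hE := engel_of_pow hp.out hN hB a' x' hh
  have hco : ∀ j, (((dl x')^[j] a' : W) : G ⧸ filt G (i + p)) = π ((dl x)^[j] a) := by
    intro j
    induction j with
    | zero => rfl
    | succ j ih =>
      rw [Function.iterate_succ_apply', Function.iterate_succ_apply']
      simp only [dl, Subgroup.coe_mul, Subgroup.coe_inv, ih, map_mul, map_inv, x']
  have h1 := hco (p - 1)
  rw [hE, Subgroup.coe_one] at h1
  have h2 := (QuotientGroup.eq_one_iff _).1 h1.symm
  have h3 := h.dl_iter_not_mem hi ha ha' (p - 1) (by omega)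
  rw [show i + (p - 1) + 1 = i + p by omega] at h3
  exact h3 h2

theorem card_le_pow_mul (K : Subgroup G) (Q : Subgroup G) (hQ : ∀ k ∈ K, k ^ p ∈ Q) :
    ∀ d i, i + d = n → 2 ≤ i → Nat.card (K ⊓ filt G i : Subgroup G) ≤
      p ^ min (p - 1) d * Nat.card (Q ⊓ filt G (min (i + p - 1) n) : Subgroup G) := by
  intro d
  induction d with
  | zero =>
    intro i hi _
    rw [add_zero] at hi
    subst hi
    rw [h.filt_n, inf_bot_eq, card_bot]
    exact Nat.one_le_iff_ne_zero.2 (Nat.mul_ne_zero (pow_ne_zero _ hp.out.ne_zero) Nat.card_pos.ne')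
  | succ d ih =>
    intro i hid hi
    have hp2 := hp.out.two_le
    have hrec := ih (i + 1) (by omega) (by omega)
    set Q0 := (Q ⊓ filt G (min (i + 1 + p - 1) n) : Subgroup G) with hQ0
    set Q1 := (Q ⊓ filt G (min (i + p - 1) n) : Subgroup G) with hQ1
    have hmono : Q0 ≤ Q1 := inf_le_inf_left _ (filt_antitone (by omega))
    by_cases hK : K ⊓ filt G i ≤ filt G (i + 1)
    · have he : (K ⊓ filt G i : Subgroup G) = K ⊓ filt G (i + 1) :=
        le_antisymm (le_inf inf_le_left hK) (inf_le_inf_left _ (filt_antitone (Nat.le_succ i)))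
      rw [he]
      exact hrec.trans (Nat.mul_le_mul (Nat.pow_le_pow_right hp.out.pos (by omega))
        (Subgroup.card_le_of_le hmono))
    · have hstep : Nat.card (K ⊓ filt G i : Subgroup G) ≤
          p * Nat.card (K ⊓ filt G (i + 1) : Subgroup G) := by
        have h1 := card_eq_relIndex_mul (filt G (i + 1)) (K ⊓ filt G i : Subgroup G)
        have h2 := card_eq_relIndex_mul (filt G (i + 1)) (filt G i)
        rw [inf_eq_right.2 (filt_antitone (Nat.le_succ i)), h.card_filt i hi (by omega),
          h.card_filt (i + 1) (by omega) (by omega), show n - i = n - (i + 1) + 1 by omega,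
          pow_succ, mul_comm] at h2
        have hidx := (Nat.eq_of_mul_eq_mul_right (pow_pos hp.out.pos _) h2).symm
        have h3 := relIndex_le_of_le_right (H := filt G (i + 1))
          (inf_le_right : K ⊓ filt G i ≤ filt G i) (by rw [hidx]; exact hp.out.ne_zero)
        rw [hidx] at h3
        have h4 : (K ⊓ filt G i ⊓ filt G (i + 1) : Subgroup G) = K ⊓ filt G (i + 1) := by
          rw [inf_assoc, inf_eq_right.2 (filt_antitone (Nat.le_succ i))]
        rw [h4] at h1
        rw [h1]
        exact Nat.mul_le_mul_right _ h3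
      by_cases hlast : n ≤ i + p - 1
      · refine hstep.trans ((Nat.mul_le_mul_left p hrec).trans ?_)
        rw [← mul_assoc, ← pow_succ']
        exact Nat.mul_le_mul (Nat.pow_le_pow_right hp.out.pos (by omega))
          (Subgroup.card_le_of_le hmono)
      · obtain ⟨a, ha, ha'⟩ := SetLike.not_le_iff_exists.1 hK
        rw [mem_inf] at ha
        have h5 : a ^ p ∈ Q1 := by
          refine mem_inf.2 ⟨hQ a ha.1, h.pow_p_mem (d + 1) i hid hi a ha.2 _ ?_ ?_⟩ <;> omega
        have h6 : a ^ p ∉ Q0 := fun hh => by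
          have := (mem_inf.1 hh).2
          rw [show min (i + 1 + p - 1) n = i + p by omega] at this
          exact h.pow_p_not_mem hi (by omega) ha.2 ha' this
        have h7 : p * Nat.card Q0 ≤ Nat.card Q1 := by
          obtain ⟨u, hu⟩ := PGroup.exists_card_eq_pow h.isPGroup Q0
          obtain ⟨v, hv⟩ := PGroup.exists_card_eq_pow h.isPGroup Q1
          have hlt : Nat.card Q0 < Nat.card Q1 := by
            refine lt_of_le_of_ne (Subgroup.card_le_of_le hmono) fun he => h6 ?_
            rw [Subgroup.eq_of_le_of_card_ge hmono he.ge]; exact h5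
          rw [hu, hv] at hlt ⊢
          rw [← pow_succ']
          exact Nat.pow_le_pow_right hp.out.pos ((Nat.pow_lt_pow_iff_right hp.out.one_lt).1 hlt)
        calc Nat.card (K ⊓ filt G i : Subgroup G)
            ≤ p * (p ^ min (p - 1) d * Nat.card Q0) := hstep.trans (Nat.mul_le_mul_left p hrec)
          _ = p ^ min (p - 1) d * (p * Nat.card Q0) := by ring
          _ ≤ p ^ min (p - 1) (d + 1) * Nat.card Q1 :=
              Nat.mul_le_mul (Nat.pow_le_pow_right hp.out.pos (by omega)) h7

/-- The Frattini subgroup of each subgroup has index at most `p ^ p`. -/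
theorem index_frattini_le (H : Subgroup G) : (frattini H).index ≤ p ^ p := by
  have h3 := h.three
  have hp2 := hp.out.two_le
  have hH : IsPGroup p H := h.isPGroup.to_subgroup H
  set D : Subgroup G := (frattini H).map H.subtype with hD
  have hcardD : Nat.card D = Nat.card (frattini H) :=
    (Nat.card_congr (equivMapOfInjective _ _ H.subtype_injective).toEquiv).symm
  suffices hkey : Nat.card H ≤ p ^ p * Nat.card D by
    rw [hcardD, ← (frattini H).card_mul_index, mul_comm] at hkey
    exact Nat.le_of_mul_le_mul_right hkey Nat.card_pos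
  by_cases htop : H ⊔ filt G 2 = ⊤
  · have hHtop : H = ⊤ := by
      refine frattini_nongenerating (top_le_iff.1 ?_)
      rw [← htop]
      exact sup_le_sup_left (filt_two (G := G) ▸ PGroup.commutator_le_frattini h.isPGroup) _
    have hle : filt G 2 ≤ D := by
      rw [filt_two, _root_.commutator_def]
      conv_lhs => rw [← hHtop]
      rw [← Subgroup.map_subtype_commutator]
      exact map_mono (PGroup.commutator_le_frattini hH)
    rw [hHtop, card_top, h.card]
    calc p ^ n = p ^ 2 * Nat.card (filt G 2) := by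
          rw [h.card_commutator, ← pow_add]; congr 1; omega
      _ ≤ p ^ p * Nat.card D :=
          Nat.mul_le_mul (Nat.pow_le_pow_right hp.out.pos hp2) (Subgroup.card_le_of_le hle)
  · set K := (H ⊓ filt G 2 : Subgroup G) with hK
    have hrel : (filt G 2).relIndex H ≤ p := by
      have h1 := card_eq_relIndex_mul (filt G 2) (H ⊔ filt G 2)
      rw [inf_eq_right.2 le_sup_right, relIndex_sup_right, h.card_commutator] at h1
      obtain ⟨m, hm⟩ := PGroup.exists_card_eq_pow h.isPGroup (H ⊔ filt G 2)
      have hlt : p ^ m < p ^ n := by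
        rw [← hm, ← h.card]
        refine lt_of_le_of_ne (Subgroup.card_le_card_group _) fun he => htop ?_
        exact Subgroup.eq_top_of_card_eq _ he
      have hmn := (Nat.pow_lt_pow_iff_right hp.out.one_lt).1 hlt
      have h2 : (filt G 2).relIndex H * p ^ (n - 2) ≤ p * p ^ (n - 2) := by
        rw [← h1, hm, ← pow_succ']
        exact Nat.pow_le_pow_right hp.out.pos (by omega)
      exact Nat.le_of_mul_le_mul_right h2 (pow_pos hp.out.pos _)
    have hpow : ∀ k ∈ K, k ^ p ∈ D := fun k hk =>
      ⟨⟨k, (mem_inf.1 hk).1⟩ ^ p, PGroup.pow_mem_frattini hH _, rfl⟩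
    have hc := h.card_le_pow_mul K D hpow (n - 2) 2 (by omega) le_rfl
    rw [inf_eq_left.2 (inf_le_right : K ≤ filt G 2)] at hc
    calc Nat.card H = (filt G 2).relIndex H * Nat.card K := card_eq_relIndex_mul _ _
      _ ≤ p * (p ^ (p - 1) * Nat.card D) := by
          refine Nat.mul_le_mul hrel (hc.trans (Nat.mul_le_mul ?_ (Subgroup.card_le_of_le inf_le_left)))
          exact Nat.pow_le_pow_right hp.out.pos (by omega)
      _ = p ^ p * Nat.card D := by
          rw [← mul_assoc, ← pow_succ']; congr 2; omega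

end Cfg

theorem exists_gen_sup [Finite G] {p : ℕ} [hp : Fact p.Prime] (hG : IsPGroup p G) :
    ∀ (e : ℕ) (D : Subgroup G), D.index ≤ p ^ e →
      ∃ T : Finset G, T.card ≤ e ∧ closure (T : Set G) ⊔ D = ⊤ := by
  classical
  intro e
  induction e with
  | zero =>
    intro D hD
    refine ⟨∅, le_rfl, ?_⟩
    rw [pow_zero] at hD
    have := D.index_ne_zero_of_finite
    rw [index_eq_one.1 (by omega : D.index = 1), sup_top_eq]
  | succ e ih =>
    intro D hD
    by_cases htop : D = ⊤
    · exact ⟨∅, Nat.zero_le _, by rw [htop, sup_top_eq]⟩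
    obtain ⟨g, hg⟩ : ∃ g, g ∉ D := by
      by_contra! hc; exact htop (eq_top_iff.2 fun x _ => hc x)
    set D' := zpowers g ⊔ D with hD'
    have hidx : D'.index ≤ p ^ e := by
      obtain ⟨u, hu⟩ := hG.index D
      obtain ⟨v, hv⟩ := hG.index D'
      have hlt : D < D' := lt_of_le_of_ne le_sup_right fun he =>
        hg (he ▸ mem_sup_left (mem_zpowers g))
      have h1 := index_strictAnti hlt
      rw [hu, hv] at h1
      rw [hu] at hD
      have h2 := (Nat.pow_le_pow_iff_right hp.out.one_lt).1 hD
      have h3 := (Nat.pow_lt_pow_iff_right hp.out.one_lt).1 h1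
      rw [hv]
      exact Nat.pow_le_pow_right hp.out.pos (by omega)
    obtain ⟨T, hT, hgen⟩ := ih D' hidx
    refine ⟨insert g T, (Finset.card_insert_le _ _).trans (by omega), ?_⟩
    rw [← hgen, hD', Finset.coe_insert, Set.insert_eq, Subgroup.closure_union, ← zpowers_eq_closure,
      ← sup_assoc, sup_comm (zpowers g)]

theorem exists_generators [Finite G] {p : ℕ} [hp : Fact p.Prime] (hG : IsPGroup p G) {e : ℕ}
    (he : (frattini G).index ≤ p ^ e) : ∃ T : Finset G, T.card ≤ e ∧ closure (T : Set G) = ⊤ := by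
  obtain ⟨T, hT, hgen⟩ := exists_gen_sup hG e _ he
  exact ⟨T, hT, frattini_nongenerating hgen⟩

end Cfsg.Agent.SectRank81
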