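import Cfsg.Agent.SectRank81.Pearl
import Cfsg.Agent.Fusion91.SmallEssential
import Cfsg.Agent.Lib.Fusion.Saturation
import Cfsg.Agent.Lib.Fusion.Normal

/-!
A group of order `27` with an essential subgroup of order `9` and exponent `3` has exponent `3`.
-/

set_option autoImplicit false
set_option linter.unusedSectionVars false
set_option linter.style.haveILetI false
set_option linter.unusedSimpArgs false

namespace Cfsg.Agent.SectRank81

open Cfsg Cfsg.Agent.Fusion
open Cfsg.FusionSystem (normalizerIn centralizerIn)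
open scoped commutatorElement

theorem exists_inversion {V : Type*} [Group V] [Finite V] (hc : ∀ a b : V, a * b = b * a)
    (hexp : ∀ v : V, v ^ 3 = 1) (hV : Nat.card V = 9) (A : Subgroup (MulAut V)) (t α : MulAut V)
    (ht : t ∈ A) (hα : α ∈ A) {z w : V} (hz : z ≠ 1) (hw : w ∉ Subgroup.zpowers z)
    (htz : t z = z) (htw : t w = w * z) (hαz : α z = w) : ∃ ν ∈ A, ∀ v, ν v = v⁻¹ := by
  classical
  letI : CommGroup V := { (inferInstance : Group V) with mul_comm := hc }
  haveI : Fact (Nat.Prime 3) := ⟨Nat.prime_three⟩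
  have hmod : ∀ (v : V) (k : ℤ), v ^ k = v ^ (k % 3) := fun v k => by
    conv_lhs => rw [← Int.emod_add_mul_ediv k 3, zpow_add, zpow_mul,
      show v ^ (3 : ℤ) = 1 by rw [show (3 : ℤ) = ((3 : ℕ) : ℤ) by rfl, zpow_natCast, hexp],
      one_zpow, mul_one]
  have hgen : Subgroup.closure ({z, w} : Set V) = ⊤ := by
    have hG : IsPGroup 3 V := IsPGroup.of_card (n := 2) (by rw [hV]; norm_num)
    obtain ⟨m, hm⟩ := PGroup.exists_card_eq_pow hG (Subgroup.closure ({z, w} : Set V))
    have hzc : Nat.card (Subgroup.zpowers z) = 3 := by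
      rw [Nat.card_zpowers]; exact orderOf_eq_prime (hexp z) hz
    have hlt : Nat.card (Subgroup.zpowers z) < Nat.card (Subgroup.closure ({z, w} : Set V)) := by
      have hle : Subgroup.zpowers z ≤ Subgroup.closure ({z, w} : Set V) :=
        Subgroup.zpowers_le.2 (Subgroup.subset_closure (Set.mem_insert z _))
      refine lt_of_le_of_ne (Subgroup.card_le_of_le hle) fun he => hw ?_
      rw [Subgroup.eq_of_le_of_card_ge hle he.ge]
      exact Subgroup.subset_closure (Set.mem_insert_of_mem z (Set.mem_singleton w))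
    rw [hzc, hm] at hlt
    have := (Nat.pow_lt_pow_iff_right (by norm_num : 1 < 3)).1 (show 3 ^ 1 < 3 ^ m by simpa using hlt)
    refine Subgroup.eq_top_of_le_card _ ?_
    rw [hm, hV]
    calc 9 = 3 ^ 2 := by norm_num
      _ ≤ 3 ^ m := Nat.pow_le_pow_right (by norm_num) (by omega)
  obtain ⟨i, j, hij⟩ := Subgroup.mem_closure_pair.1
    (show α⁻¹ z ∈ Subgroup.closure ({z, w} : Set V) from hgen ▸ Subgroup.mem_top _)
  have hy : α (z ^ i * w ^ j) = z := by
    rw [hij]; exact α.apply_symm_apply z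
  set u := α * t * α⁻¹ with hu
  have huA : u ∈ A := A.mul_mem (A.mul_mem hα ht) (A.inv_mem hα)
  have huw : u w = w := by
    show α (t (α.symm w)) = w
    rw [show α.symm w = z by rw [← hαz, α.symm_apply_apply], htz, hαz]
  have huz : u z = z * w ^ j := by
    show α (t (α.symm z)) = z * w ^ j
    rw [show α.symm z = z ^ i * w ^ j from hij.symm, map_mul, map_zpow, map_zpow, htz, htw,
      mul_zpow, ← mul_assoc, map_mul, hy, map_zpow, hαz]
  have hj : ¬ j % 3 = 0 := by
    intro h0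
    have hy' := hy
    rw [hmod w j, h0, zpow_zero, mul_one, map_zpow, hαz, hmod w i] at hy'
    rcases (show i % 3 = 0 ∨ i % 3 = 1 ∨ i % 3 = 2 by omega) with h | h | h <;> rw [h] at hy'
    · exact hz (by rw [← hy', zpow_zero])
    · exact hw ⟨1, by simp only [zpow_one] at hy' ⊢; exact hy'.symm⟩
    · refine hw ⟨2, ?_⟩
      show z ^ (2 : ℤ) = w
      rw [← hy', ← zpow_mul, hmod w (2 * 2)]
      norm_num
  have key : ∃ u' ∈ A, u' w = w ∧ u' z = z * w⁻¹ := by
    rcases (show j % 3 = 1 ∨ j % 3 = 2 by omega) with h | h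
    · refine ⟨u * u, A.mul_mem huA huA, by rw [MulAut.mul_apply, huw, huw], ?_⟩
      rw [MulAut.mul_apply, huz, map_mul, map_zpow, huw, huz, hmod w j, h, zpow_one, mul_assoc]
      congr 1
      exact eq_inv_of_mul_eq_one_left (by simpa [pow_succ, mul_assoc] using hexp w)
    · refine ⟨u, huA, huw, ?_⟩
      rw [huz, hmod w j, h]
      congr 1
      exact eq_inv_of_mul_eq_one_left (by
        rw [show (2 : ℤ) = ((2 : ℕ) : ℤ) by rfl, zpow_natCast, ← pow_succ, hexp])
  obtain ⟨u', hu'A, hu'w, hu'z⟩ := key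
  set m := t * u' * t with hm
  have hmz : m z = w⁻¹ := by
    rw [hm, MulAut.mul_apply, MulAut.mul_apply, htz, hu'z, map_mul, map_inv, htz, htw, mul_inv,
      mul_comm w⁻¹, ← mul_assoc, mul_inv_cancel, one_mul]
  have hmw : m w = z := by
    rw [hm, MulAut.mul_apply, MulAut.mul_apply, htw, map_mul, hu'w, hu'z, map_mul, map_mul, map_inv,
      htw, htz, mul_inv_rev]
    rw [mul_comm z, mul_assoc, mul_comm (z⁻¹ * w⁻¹) z]
    simp [mul_assoc, mul_comm, mul_left_comm]
  refine ⟨m * m, A.mul_mem (A.mul_mem (A.mul_mem ht hu'A) ht) (A.mul_mem (A.mul_mem ht hu'A) ht), ?_⟩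
  intro v
  obtain ⟨a, b, rfl⟩ := Subgroup.mem_closure_pair.1
    (show v ∈ Subgroup.closure ({z, w} : Set V) from hgen ▸ Subgroup.mem_top _)
  rw [MulAut.mul_apply, map_mul, map_mul, map_zpow, map_zpow, map_zpow, map_zpow, hmz, hmw, map_inv,
    hmw, hmz, mul_inv, inv_zpow, inv_zpow]

variable {Ω : Type*} [Group Ω] {S : Subgroup Ω} [Finite S] [Fact (Nat.Prime 3)]

theorem pearl_exponent (hS : IsPGroup 3 S) (F : Cfsg.FusionSystem S) (hF : F.IsSaturated 3)
    (E : Subgroup Ω) (hE : F.IsEssential 3 E) (hcE : Nat.card E = 9)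
    (hexp : ∀ e ∈ E, e ^ 3 = 1) (hcomm : ∀ a b : E, a * b = b * a) (x : S) (h : Cfg 3 3 x) :
    ∀ g ∈ S, g ^ 3 = 1 := by
  classical
  have hES : E ≤ S := hE.1.1
  have hCE : centralizerIn S E ≤ E := hE.1.2 E (isConj_refl hES)
  haveI : Finite E := finite_of_le hES
  set Z : Subgroup Ω := (Subgroup.center S).map S.subtype with hZ
  have hZS : Z ≤ S := Subgroup.map_subtype_le _
  have hZc : ∀ z ∈ Z, ∀ g ∈ S, g * z = z * g := by
    rintro _ ⟨z, hz, rfl⟩ g hg
    exact congrArg Subtype.val (Subgroup.mem_center_iff.1 hz ⟨g, hg⟩)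
  have hZcard : Nat.card Z = 3 := by
    rw [hZ, ← Nat.card_congr (Subgroup.equivMapOfInjective _ _ S.subtype_injective).toEquiv, h.card_center]
  have hZE : Z ≤ E := fun z hz => hCE ⟨hZS hz, Subgroup.mem_centralizer_iff.2 fun e he =>
    hZc z hz e (hES he)⟩
  have hderived : ∀ a ∈ S, ∀ b ∈ S, a * b * a⁻¹ * b⁻¹ ∈ Z := by
    intro a ha b hb
    refine ⟨⁅(⟨a, ha⟩ : S), ⟨b, hb⟩⁆, ?_, rfl⟩
    rw [h.center_eq]
    exact Subgroup.commutator_mem_commutator (Subgroup.mem_top _) (Subgroup.mem_top _)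
  have hcardS : Nat.card S = 3 ^ 3 := h.card
  have hEidx : (E.subgroupOf S).index = 3 := by
    have h1 := (E.subgroupOf S).card_mul_index
    rw [Nat.card_congr (Subgroup.subgroupOfEquivOfLe hES).toEquiv, hcE, hcardS] at h1
    omega
  haveI hEn : (E.subgroupOf S).Normal := PGroup.normal_of_index_eq_prime hS hEidx
  have hnorm : ∀ g ∈ S, g ∈ normalizerIn S E := fun g hg => ⟨hg, Subgroup.mem_normalizer_iff.2
    fun e => ⟨fun he => Subgroup.mem_subgroupOf.1 (hEn.conj_mem (⟨e, hES he⟩ : S) he ⟨g, hg⟩),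
      fun he => by
        have h1 := Subgroup.mem_subgroupOf.1 (hEn.conj_mem (⟨g * e * g⁻¹, hES he⟩ : S) he ⟨g⁻¹, inv_mem hg⟩)
        simpa [mul_assoc] using h1⟩⟩
  -- some automorphism moves the centre
  obtain ⟨α, hα, z, hz, hz1, hαz⟩ : ∃ α ∈ F.autGroup E, ∃ z, z ∈ Z ∧ z ≠ 1 ∧ autFun α z ∉ Z := by
    by_contra! hno
    refine Fusion91.no_invariant_series (p := 3) hS hE
      (fun i => if i = 0 then ⊥ else if i = 1 then Z else E) 2 (fun i => ?_) rfl rfl ?_ ?_
    · split
      · exact bot_le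
      · split
        · exact hZE
        · exact le_rfl
    · intro i _ α hα
      have hmap := (mem_autGroup hES).1 hα
      split
      · simp [hmap.1.map_one]
      · split
        · have hmaps : ∀ y ∈ Z, autFun α y ∈ Z := fun y hy => by
            by_cases hy1 : y = 1
            · rw [hy1, hmap.1.map_one]; exact one_mem _
            · exact hno α hα y hy hy1
          refine Set.Subset.antisymm (fun y ⟨u, hu, huy⟩ => huy ▸ hmaps u hu) fun y hy => ?_
          exact surjOn_of_card_le hZS (hmap.1.injOn.mono hZE) hmaps le_rfl y hy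
        · exact autFun_image α
    · intro i hi
      rcases (show i = 0 ∨ i = 1 by omega) with rfl | rfl
      · simp only [Nat.zero_add, one_ne_zero, if_false, if_true]
        rw [Subgroup.relIndex_bot_left, hZcard]
      · simp only [one_ne_zero, if_false, if_true, show ¬ (1 + 1 = 0) by omega, show ¬ (1 + 1 = 1) by omega]
        have h1 := card_eq_relIndex_mul Z E
        rw [inf_eq_right.2 hZE, hcE, hZcard] at h1
        omega
  have hzE : z ∈ E := hZE hz
  set w : Ω := autFun α z with hw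
  have hwE : w ∈ E := by rw [hw, autFun_of_mem α hzE]; exact (α _).2
  have hzgen : ∀ y ∈ Z, y ∈ Subgroup.zpowers z := by
    intro y hy
    have : Subgroup.zpowers z = Z := by
      haveI : Finite Z := finite_of_le hZS
      refine Subgroup.eq_of_le_of_card_ge (Subgroup.zpowers_le.2 hz) ?_
      rw [hZcard, Nat.card_zpowers, orderOf_eq_prime (hexp z hzE) hz1]
    rw [this]; exact hy
  have hwz : w ∉ Subgroup.zpowers z := fun hh => hαz (Subgroup.zpowers_le.2 hz hh)
  obtain ⟨b0, hb0, hb0E⟩ : ∃ b ∈ S, b ∉ E := by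
    by_contra! hc
    have h1 : E.subgroupOf S = ⊤ := Subgroup.subgroupOf_eq_top.2 hc
    rw [h1, Subgroup.index_top] at hEidx
    omega
  have hc1 : ∀ b ∈ S, b ∉ E → b * w * b⁻¹ * w⁻¹ ≠ 1 := by
    intro b hb hbE hone
    apply hbE
    refine hCE ⟨hb, Subgroup.mem_centralizer_iff.2 fun e he => ?_⟩
    have hgen : Subgroup.closure ({(⟨z, hzE⟩ : E), ⟨w, hwE⟩} : Set E) = ⊤ := by
      have hG : IsPGroup 3 E := hS.to_le hES
      obtain ⟨m, hm⟩ := PGroup.exists_card_eq_pow hG (Subgroup.closure ({(⟨z, hzE⟩ : E), ⟨w, hwE⟩} : Set E))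
      have hle : Subgroup.zpowers (⟨z, hzE⟩ : E) ≤ Subgroup.closure ({(⟨z, hzE⟩ : E), ⟨w, hwE⟩} : Set E) :=
        Subgroup.zpowers_le.2 (Subgroup.subset_closure (Set.mem_insert _ _))
      have hlt : 3 ^ 1 < 3 ^ m := by
        rw [← hm]
        have h3 : Nat.card (Subgroup.zpowers (⟨z, hzE⟩ : E)) = 3 := by
          rw [Nat.card_zpowers, ← Subgroup.orderOf_coe]
          exact orderOf_eq_prime (hexp z hzE) hz1
        rw [pow_one, ← h3]
        refine lt_of_le_of_ne (Subgroup.card_le_of_le hle) fun he => hwz ?_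
        have h4 : (⟨w, hwE⟩ : E) ∈ Subgroup.zpowers (⟨z, hzE⟩ : E) := by
          rw [Subgroup.eq_of_le_of_card_ge hle he.ge]
          exact Subgroup.subset_closure (Set.mem_insert_of_mem _ (Set.mem_singleton _))
        obtain ⟨k, hk⟩ := h4
        exact ⟨k, by simpa using congrArg Subtype.val hk⟩
      have := (Nat.pow_lt_pow_iff_right (by norm_num : 1 < 3)).1 hlt
      refine Subgroup.eq_top_of_le_card _ ?_
      rw [hm, hcE]
      calc 9 = 3 ^ 2 := by norm_num
        _ ≤ 3 ^ m := Nat.pow_le_pow_right (by norm_num) (by omega)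
    have hbw : b * w = w * b := by
      rw [mul_inv_eq_one, mul_inv_eq_iff_eq_mul] at hone
      exact hone
    have hsub : (⊤ : Subgroup E) ≤ (Subgroup.centralizer ({b} : Set Ω)).comap E.subtype := by
      rw [← hgen, Subgroup.closure_le]
      rintro u (rfl | rfl)
      · exact Subgroup.mem_centralizer_singleton_iff.2 (hZc z hz b hb).symm
      · exact Subgroup.mem_centralizer_singleton_iff.2 hbw.symm
    exact Subgroup.mem_centralizer_singleton_iff.1 (hsub (Subgroup.mem_top (⟨e, he⟩ : E)))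
  obtain ⟨b, hb, hbw⟩ : ∃ b ∈ S, b * w * b⁻¹ = w * z := by
    set c := b0 * w * b0⁻¹ * w⁻¹ with hc
    have hcZ : c ∈ Z := hderived b0 hb0 w (hES hwE)
    obtain ⟨k, hk⟩ := hzgen c hcZ
    have hk' : c = z ^ (k % 3) := by
      rw [← hk]
      show z ^ k = _
      conv_lhs => rw [← Int.emod_add_mul_ediv k 3, zpow_add, zpow_mul,
        show z ^ (3 : ℤ) = 1 by rw [show (3 : ℤ) = ((3 : ℕ) : ℤ) by rfl, zpow_natCast, hexp z hzE],
        one_zpow, mul_one]
    have hbc : b0 * w * b0⁻¹ = c * w := by rw [hc]; group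
    rcases (show k % 3 = 0 ∨ k % 3 = 1 ∨ k % 3 = 2 by omega) with hh | hh | hh
    · exact absurd (by rw [← hc, hk', hh, zpow_zero]) (hc1 b0 hb0 hb0E)
    · refine ⟨b0, hb0, ?_⟩
      rw [hbc, hk', hh, zpow_one]
      exact (hZc z hz w (hES hwE)).symm
    · refine ⟨b0⁻¹, inv_mem hb0, ?_⟩
      have hcz : c * z = 1 := by
        rw [hk', hh, show (2 : ℤ) = ((2 : ℕ) : ℤ) by rfl, zpow_natCast, ← pow_succ, hexp z hzE]
      calc b0⁻¹ * w * b0⁻¹⁻¹ = b0⁻¹ * ((c * w) * z) * b0 := by
            rw [mul_assoc c, hZc z hz w (hES hwE), ← mul_assoc c, hcz, one_mul, inv_inv]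
        _ = b0⁻¹ * (b0 * w * b0⁻¹ * z) * b0 := by rw [hbc]
        _ = w * (b0⁻¹ * (z * b0)) := by group
        _ = w * z := by rw [← hZc z hz b0 hb0, inv_mul_cancel_left]
  set t := conjAutHom S E ⟨b, hnorm b hb⟩ with ht
  have htA : t ∈ F.autGroup E := autInducedBy_le_autGroup hES
    (by rw [← range_conjAutHom]; exact ⟨_, rfl⟩)
  obtain ⟨ν, hν, hinv⟩ := exists_inversion (V := E) hcomm (fun v => Subtype.ext (hexp v v.2)) hcE
    (F.autGroup E) t α htA hα (z := ⟨z, hzE⟩) (w := ⟨w, hwE⟩)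
    (fun hh => hz1 (congrArg Subtype.val hh))
    (fun ⟨k, hk⟩ => hwz ⟨k, by simpa using congrArg Subtype.val hk⟩)
    (Subtype.ext (by
      show b * z * b⁻¹ = z
      rw [hZc z hz b hb, mul_inv_cancel_right]))
    (Subtype.ext hbw)
    (Subtype.ext (autFun_of_mem α hzE).symm)
  have hνf : ∀ e ∈ E, autFun ν e = e⁻¹ := fun e he => by
    rw [autFun_of_mem ν he, hinv]; rfl
  have hiso : IsIso F E E (autFun ν) := (mem_autGroup hES).1 hν
  have hext : IsExtendable S E (autFun ν) S := by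
    refine ⟨le_rfl, fun g hg => ⟨(hnorm g hg).2, g, hg, fun e he => ?_⟩⟩
    rw [hνf _ (conj_mem_of_mem_normalizer (hnorm g hg).2 he), hνf e he]
    group
  obtain ⟨f, hf, hfe⟩ := receptive_extend (receptive_of_fullyNormalized hS hF hE.2.1) hiso hext
  rw [sup_eq_right.2 hES] at hf
  intro g hg
  by_cases hgE : g ∈ E
  · exact hexp g hgE
  set e0 := g⁻¹ * f g with he0
  have he0E : e0 ∈ E := by
    refine hCE ⟨S.mul_mem (S.inv_mem hg) (hf.apply_mem hg), Subgroup.mem_centralizer_iff.2 fun e he => ?_⟩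
    have heE : g * e * g⁻¹ ∈ E := conj_mem_of_mem_normalizer (hnorm g hg).2 he
    have h1 := hf.map_conj hg (hES he)
    rw [hfe heE, hfe he, hνf _ heE, hνf e he] at h1
    have h2 : g * e⁻¹ * g⁻¹ = f g * e⁻¹ * (f g)⁻¹ := by rw [← h1]; group
    have h3 : g * e * g⁻¹ = f g * e * (f g)⁻¹ := by
      have := congrArg (fun u => u⁻¹) h2
      simpa [mul_assoc] using this
    calc e * e0 = g⁻¹ * (g * e * g⁻¹) * f g := by rw [he0]; group
      _ = g⁻¹ * (f g * e * (f g)⁻¹) * f g := by rw [h3]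
      _ = e0 * e := by rw [he0]; group
  have hg3 : g ^ 3 ∈ E := by
    have h1 : (QuotientGroup.mk' (E.subgroupOf S) ⟨g, hg⟩) ^ 3 = 1 := by
      rw [← hEidx, Subgroup.index_eq_card]; exact pow_card_eq_one'
    rw [← map_pow] at h1
    exact Subgroup.mem_subgroupOf.1 ((QuotientGroup.eq_one_iff _).1 h1)
  have hcube : (g * e0) ^ 3 = g ^ 3 := by
    set d := g⁻¹ * e0 * g * e0⁻¹ with hd
    have hdZ : d ∈ Z := by
      have h1 := hderived g⁻¹ (inv_mem hg) e0 (hES he0E)
      rwa [inv_inv] at h1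
    have hdg := hZc d hdZ g hg
    have hde := hZc d hdZ e0 (hES he0E)
    have heg : e0 * g = g * (d * e0) := by rw [hd]; group
    have hd3 : d ^ 3 = 1 := hexp d (hZE hdZ)
    have heg2 : e0 * e0 * g = g * (d * d * (e0 * e0)) := by
      calc e0 * e0 * g = e0 * (g * (d * e0)) := by rw [mul_assoc, heg]
        _ = e0 * g * (d * e0) := by rw [← mul_assoc]
        _ = g * (d * (e0 * d) * e0) := by rw [heg]; simp only [mul_assoc]
        _ = g * (d * (d * e0) * e0) := by rw [hde]
        _ = g * (d * d * (e0 * e0)) := by simp only [mul_assoc]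
    calc (g * e0) ^ 3 = g * (e0 * g) * (e0 * g * e0) := by simp [pow_succ, mul_assoc]
      _ = g * (g * (d * e0)) * (e0 * g * e0) := by rw [heg]
      _ = g * g * d * (e0 * e0 * g) * e0 := by simp only [mul_assoc]
      _ = g * g * d * (g * (d * d * (e0 * e0))) * e0 := by rw [heg2]
      _ = g * g * (d * g) * (d * d * (e0 * e0)) * e0 := by simp only [mul_assoc]
      _ = g * g * (g * d) * (d * d * (e0 * e0)) * e0 := by rw [hdg]
      _ = g ^ 3 * (d ^ 3 * e0 ^ 3) := by simp only [pow_succ, pow_zero, one_mul, mul_assoc]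
      _ = g ^ 3 := by rw [hd3, hexp e0 he0E, one_mul, mul_one]
  have h1 := hf.map_pow hg 3
  rw [hfe hg3, hνf _ hg3, show f g = g * e0 by rw [he0]; group, hcube] at h1
  have h2 : g ^ 3 * g ^ 3 = 1 := by
    nth_rewrite 1 [← h1]; exact inv_mul_cancel _
  have h3 : (g ^ 3) ^ 3 = 1 := hexp _ hg3
  calc g ^ 3 = (g ^ 3) ^ 3 * ((g ^ 3 * g ^ 3))⁻¹ := by group
    _ = 1 := by rw [h2, h3, inv_one, mul_one]

end Cfsg.Agent.SectRank81
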