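import Cfsg.Agent.SectRank81.MaxClass

/-!
`3`-groups of maximal class of order at least `3 ^ 5` have sectional rank two; those of order `3 ^ 4`
have sectional rank two or embed in the symmetric group of degree nine.
-/

set_option autoImplicit false
set_option linter.unusedSectionVars false
set_option linter.style.haveILetI false

set_option maxHeartbeats 1000000

namespace Cfsg.Agent.SectRank81

open Subgroup FG38
open scoped commutatorElement

variable {G : Type*} [Group G] [Finite G] {n : ℕ} {x : G}

theorem card_centralizer_ge (u : G) (N : Set G) (hN : ∀ g : G, g * u * g⁻¹ * u⁻¹ ∈ N) :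
    Nat.card G ≤ Nat.card N * Nat.card (centralizer ({u} : Set G)) := by
  let φ : G → N := fun g => ⟨g * u * g⁻¹ * u⁻¹, hN g⟩
  haveI : Nonempty G := ⟨1⟩
  let r : N → G := Function.invFun φ
  have hC : ∀ g : G, (r (φ g))⁻¹ * g ∈ centralizer ({u} : Set G) := by
    intro g
    have e : φ (r (φ g)) = φ g := Function.invFun_eq ⟨g, rfl⟩
    have e2 := mul_right_cancel (congrArg Subtype.val e)
    rw [mem_centralizer_singleton_iff]
    calc (r (φ g))⁻¹ * g * u = (r (φ g))⁻¹ * (g * u * g⁻¹) * g := by group
      _ = (r (φ g))⁻¹ * (r (φ g) * u * (r (φ g))⁻¹) * g := by rw [e2]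
      _ = u * ((r (φ g))⁻¹ * g) := by group
  have hinj : Function.Injective fun g : G =>
      ((φ g, ⟨_, hC g⟩) : N × centralizer ({u} : Set G)) := by
    intro g g' hg
    simp only [Prod.mk.injEq, Subtype.mk.injEq] at hg
    obtain ⟨h1, h2⟩ := hg
    rw [h1] at h2
    exact mul_left_cancel h2
  calc Nat.card G ≤ Nat.card (N × centralizer ({u} : Set G)) :=
        Nat.card_le_card_of_injective _ hinj
    _ = _ := Nat.card_prod _ _

variable [Fact (Nat.Prime 3)]

namespace Cfg

variable (h : Cfg 3 n x)
include h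

/-- A layer of the series is generated by any of its elements outside the next term. -/
theorem layer_gen {i : ℕ} (hi : 2 ≤ i) (hin : i + 1 ≤ n) {v : G} (hv : v ∈ filt G i)
    (hv' : v ∉ filt G (i + 1)) : zpowers v ⊔ filt G (i + 1) = filt G i := by
  have hle : zpowers v ⊔ filt G (i + 1) ≤ filt G i :=
    sup_le (zpowers_le.2 hv) (filt_antitone (Nat.le_succ i))
  refine Subgroup.eq_of_le_of_card_ge hle ?_
  obtain ⟨m, hm⟩ := PGroup.exists_card_eq_pow h.isPGroup (zpowers v ⊔ filt G (i + 1) : Subgroup G)
  have h1 : Nat.card (filt G (i + 1)) < Nat.card (zpowers v ⊔ filt G (i + 1) : Subgroup G) := by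
    refine lt_of_le_of_ne (Subgroup.card_le_of_le le_sup_right) fun he => hv' ?_
    rw [Subgroup.eq_of_le_of_card_ge le_sup_right he.ge]
    exact mem_sup_left (mem_zpowers v)
  rw [hm, h.card_filt (i + 1) (by omega) hin] at h1
  have := (Nat.pow_lt_pow_iff_right (by norm_num : 1 < 3)).1 h1
  rw [hm, h.card_filt i hi (by omega)]
  exact Nat.pow_le_pow_right (by norm_num) (by omega)

omit h in
/-- The centraliser of a two-step factor. -/
def twoStep (G : Type*) [Group G] (i : ℕ) : Subgroup G where
  carrier := {g | ∀ v ∈ filt G i, g * v * g⁻¹ * v⁻¹ ∈ filt G (i + 2)}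
  one_mem' := fun v _ => by simp [one_mem]
  mul_mem' := by
    intro g g' hg hg' v hv
    have e : g * g' * v * (g * g')⁻¹ * v⁻¹ =
        g * (g' * v * g'⁻¹ * v⁻¹) * g⁻¹ * (g * v * g⁻¹ * v⁻¹) := by group
    rw [e]
    exact mul_mem ((inferInstance : (filt G (i + 2)).Normal).conj_mem _ (hg' v hv) g) (hg v hv)
  inv_mem' := by
    intro g hg v hv
    have h1 := hg (g⁻¹ * v * g) (by
      simpa using (inferInstance : (filt G i).Normal).conj_mem v hv g⁻¹)
    have e : g⁻¹ * v * g⁻¹⁻¹ * v⁻¹ = (g * (g⁻¹ * v * g) * g⁻¹ * (g⁻¹ * v * g)⁻¹)⁻¹ := by group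
    rw [e]
    exact inv_mem h1

omit h in
theorem mem_twoStep {i : ℕ} {g : G} :
    g ∈ twoStep G i ↔ ∀ v ∈ filt G i, ⁅g, v⁆ ∈ filt G (i + 2) := Iff.rfl

theorem x_not_twoStep {i : ℕ} (hi : 2 ≤ i) (hin : i + 2 ≤ n) : x ∉ twoStep G i := by
  intro hx
  obtain ⟨v, hv, hv'⟩ : ∃ v ∈ filt G i, v ∉ filt G (i + 1) := by
    by_contra! hc
    have := Subgroup.card_le_of_le (show filt G i ≤ filt G (i + 1) from hc)
    rw [h.card_filt i hi (by omega), h.card_filt (i + 1) (by omega) (by omega)] at this
    have := (Nat.pow_le_pow_iff_right (by norm_num : 1 < 3)).1 this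
    omega
  refine h.dl_not_mem hi hin (inv_mem hv) (fun hh => hv' (inv_mem_iff.1 hh)) ?_
  rw [dl_eq, inv_inv, ← commutatorElement_inv]
  exact inv_mem (mem_twoStep.1 hx v hv)

theorem commutator_two_two (hn : 5 ≤ n) : ⁅filt G 2, filt G 2⁆ ≤ filt G 5 := by
  obtain ⟨v, hv, hv'⟩ : ∃ v ∈ filt G 2, v ∉ filt G 3 := by
    by_contra! hc
    have := Subgroup.card_le_of_le (show filt G 2 ≤ filt G 3 from hc)
    rw [h.card_filt 2 le_rfl (by omega), h.card_filt 3 (by omega) (by omega)] at this
    have := (Nat.pow_le_pow_iff_right (by norm_num : 1 < 3)).1 this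
    omega
  set π := QuotientGroup.mk' (filt G 5)
  rw [commutator_le]
  intro a ha b hb
  rw [← h.layer_gen le_rfl (by omega) hv hv'] at ha hb
  obtain ⟨a₁, ha₁, a₂, ha₂, rfl⟩ := mem_sup_of_normal_right.1 ha
  obtain ⟨b₁, hb₁, b₂, hb₂, rfl⟩ := mem_sup_of_normal_right.1 hb
  obtain ⟨s, rfl⟩ := mem_zpowers_iff.1 ha₁
  obtain ⟨t, rfl⟩ := mem_zpowers_iff.1 hb₁
  have hcen : ∀ w ∈ filt G 3, ∀ g ∈ filt G 2, Commute (π w) (π g) := by
    intro w hw g hg
    show _ = _
    rw [← commutatorElement_eq_one_iff_mul_comm, ← map_commutatorElement]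
    exact (QuotientGroup.eq_one_iff _).2 (filt_commutator 3 2 (commutator_mem_commutator hw hg))
  refine (QuotientGroup.eq_one_iff _).1 ?_
  show π ⁅v ^ s * a₂, v ^ t * b₂⁆ = 1
  rw [map_commutatorElement, commutatorElement_eq_one_iff_mul_comm, map_mul, map_mul]
  refine (Commute.mul_left (Commute.mul_right ?_ (hcen b₂ hb₂ _ (zpow_mem hv s)).symm) ?_).eq
  · exact (Commute.zpow_zpow_self v s t).map _
  · rw [← map_mul]
    exact hcen a₂ ha₂ _ (mul_mem (zpow_mem hv t) (filt_antitone (by omega) hb₂))

theorem twoStep_two_le (hn : 5 ≤ n) : twoStep G 2 ≤ twoStep G 3 := by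
  have h22 := h.commutator_two_two hn
  set M := twoStep G 2
  have hM : ⁅M, filt G 2⁆ ≤ filt G 4 := commutator_le.2 fun g hg v hv => hg v hv
  have key : ⁅⁅filt G 2, (⊤ : Subgroup G)⁆, M⁆ ≤ filt G 5 := by
    refine commutator_le_of_rotate ?_ ?_
    · refine (commutator_mono ?_ le_rfl).trans h22
      rw [filt_two, _root_.commutator_def]
      exact commutator_mono le_top le_top
    · refine (commutator_mono hM le_rfl).trans ?_
      rw [← filt_succ_eq 4 (by omega)]
  rw [← filt_succ_eq 2 (by omega)] at key
  intro g hg v hv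
  show ⁅g, v⁆ ∈ filt G 5
  rw [← commutatorElement_inv]
  exact inv_mem (key (commutator_mem_commutator hv hg))

theorem twoStep_add_two {i : ℕ} (hi : 2 ≤ i) (hin : i + 4 ≤ n) :
    twoStep G i ≤ twoStep G (i + 2) := by
  intro g hg
  rw [mem_twoStep]
  obtain ⟨u, hu, hu'⟩ : ∃ u ∈ filt G i, u ∉ filt G (i + 1) := by
    by_contra! hc
    have := Subgroup.card_le_of_le (show filt G i ≤ filt G (i + 1) from hc)
    rw [h.card_filt i hi (by omega), h.card_filt (i + 1) (by omega) (by omega)] at this
    have := (Nat.pow_le_pow_iff_right (by norm_num : 1 < 3)).1 this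
    omega
  have h3 : u ^ 3 ∈ filt G (i + 2) :=
    h.pow_p_mem (n - i) i (by omega) hi u hu (i + 2) (by omega) (by omega)
  have h3' : u ^ 3 ∉ filt G (i + 2 + 1) := h.pow_p_not_mem hi (by omega) hu hu'
  intro v hv
  rw [← h.layer_gen (by omega) (by omega) h3 h3'] at hv
  obtain ⟨v₁, hv₁, v₂, hv₂, rfl⟩ := mem_sup_of_normal_right.1 hv
  obtain ⟨s, rfl⟩ := mem_zpowers_iff.1 hv₁
  set π := QuotientGroup.mk' (filt G (i + 2 + 2))
  refine (QuotientGroup.eq_one_iff _).1 ?_
  show π ⁅g, (u ^ 3) ^ s * v₂⁆ = 1
  rw [map_commutatorElement, commutatorElement_eq_one_iff_mul_comm, map_mul, map_zpow]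
  refine (Commute.mul_right (Commute.zpow_right ?_ s) ?_).eq
  · set c := ⁅g, u⁆ with hc
    have hcm : c ∈ filt G (i + 2) := mem_twoStep.1 hg u hu
    have hcu : Commute (π c) (π u) := by
      show _ = _
      rw [← commutatorElement_eq_one_iff_mul_comm, ← map_commutatorElement]
      exact (QuotientGroup.eq_one_iff _).2 (filt_antitone (by omega)
        (filt_commutator (i + 2) i (commutator_mem_commutator hcm hu)))
    have hc3 : c ^ 3 ∈ filt G (i + 2 + 2) := by
      by_cases hlast : i + 4 = n
      · rw [h.pow_p_eq_one (n - (i + 2)) (i + 2) (by omega) (by omega) (by omega) c hcm]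
        exact one_mem _
      · exact h.pow_p_mem (n - (i + 2)) (i + 2) (by omega) (by omega) c hcm _ (by omega) (by omega)
    have e : π g * π u * (π g)⁻¹ = π c * π u := by
      simp [hc, commutatorElement_def, mul_assoc]
    have h1 : π g * π (u ^ 3) * (π g)⁻¹ = π (u ^ 3) := by
      rw [map_pow, ← conj_pow, e, hcu.mul_pow, ← map_pow, show π (c ^ 3) = 1 from
        (QuotientGroup.eq_one_iff _).2 hc3, one_mul]
    exact mul_inv_eq_iff_eq_mul.1 h1
  · show _ = _
    rw [← commutatorElement_eq_one_iff_mul_comm, ← map_commutatorElement]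
    refine (QuotientGroup.eq_one_iff _).2 ?_
    rw [← commutatorElement_inv]
    exact inv_mem (filt_commutator (i + 3) 1 (commutator_mem_commutator hv₂ (by trivial)))

theorem twoStep_le (hn : 5 ≤ n) : ∀ i, 2 ≤ i → i + 2 ≤ n → twoStep G 2 ≤ twoStep G i := by
  intro i
  induction i using Nat.strong_induction_on with
  | _ i ih =>
    intro hi hin
    rcases (show i = 2 ∨ i = 3 ∨ 4 ≤ i by omega) with rfl | rfl | h4
    · exact le_rfl
    · exact h.twoStep_two_le hn
    · obtain ⟨j, rfl⟩ : ∃ j, i = j + 2 := ⟨i - 2, by omega⟩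
      exact (ih j (by omega) (by omega) (by omega)).trans (h.twoStep_add_two (by omega) (by omega))

theorem filt_two_le_twoStep {i : ℕ} : filt G 2 ≤ twoStep G i := fun g hg v hv =>
  filt_antitone (by omega : i + 2 ≤ 2 + i) (filt_commutator 2 i (commutator_mem_commutator hg hv))

theorem card_twoStep (hn : 5 ≤ n) : Nat.card (twoStep G 2) = 3 ^ (n - 1) := by
  obtain ⟨m, hm⟩ := PGroup.exists_card_eq_pow h.isPGroup (twoStep G 2)
  have hne : Nat.card (twoStep G 2) < 3 ^ n := by
    rw [← h.card]
    refine lt_of_le_of_ne (Subgroup.card_le_card_group _) fun he =>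
      h.x_not_twoStep le_rfl (by omega) ?_
    rw [Subgroup.eq_top_of_card_eq _ he]
    exact mem_top x
  obtain ⟨v, hv, hv'⟩ : ∃ v ∈ filt G 2, v ∉ filt G 3 := by
    by_contra! hc
    have := Subgroup.card_le_of_le (show filt G 2 ≤ filt G 3 from hc)
    rw [h.card_filt 2 le_rfl (by omega), h.card_filt 3 (by omega) (by omega)] at this
    have := (Nat.pow_le_pow_iff_right (by norm_num : 1 < 3)).1 this
    omega
  set π := QuotientGroup.mk' (filt G 4)
  set F3 := (filt G 3).map π with hF3
  have hcom : F3.comap π = filt G 3 := by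
    rw [hF3, comap_map_eq, QuotientGroup.ker_mk', sup_eq_left.2 (filt_antitone (by omega))]
  have hF3card : Nat.card F3 = 3 := by
    have h1 := FG78.card_comap_mk' (filt G 4) F3
    rw [hcom, h.card_filt 3 (by omega) (by omega), h.card_filt 4 (by omega) (by omega),
      show n - 3 = n - 4 + 1 by omega, pow_succ] at h1
    exact (Nat.eq_of_mul_eq_mul_left (by positivity) h1).symm
  have h2 := card_centralizer_ge (π v) (F3 : Set (G ⧸ filt G 4)) (by
    intro gb
    obtain ⟨g, rfl⟩ := QuotientGroup.mk'_surjective _ gb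
    refine ⟨g * v * g⁻¹ * v⁻¹, ?_, by simp [π]⟩
    rw [SetLike.mem_coe, ← inv_mem_iff]
    have := filt_commutator 2 1 (commutator_mem_commutator hv (show g ∈ filt G 1 by trivial))
    rwa [show (g * v * g⁻¹ * v⁻¹)⁻¹ = ⁅v, g⁆ by simp [commutatorElement_def, mul_assoc]])
  rw [SetLike.coe_sort_coe, hF3card] at h2
  set C := centralizer ({π v} : Set (G ⧸ filt G 4))
  have hle : C.comap π ≤ twoStep G 2 := by
    intro g hg w hw
    rw [← h.layer_gen le_rfl (by omega) hv hv'] at hw
    obtain ⟨w₁, hw₁, w₂, hw₂, rfl⟩ := mem_sup_of_normal_right.1 hw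
    obtain ⟨s, rfl⟩ := mem_zpowers_iff.1 hw₁
    refine (QuotientGroup.eq_one_iff _).1 ?_
    show π ⁅g, v ^ s * w₂⁆ = 1
    rw [map_commutatorElement, commutatorElement_eq_one_iff_mul_comm, map_mul, map_zpow]
    refine (Commute.mul_right (Commute.zpow_right (mem_centralizer_singleton_iff.1 hg) s) ?_).eq
    show _ = _
    rw [← commutatorElement_eq_one_iff_mul_comm, ← map_commutatorElement]
    refine (QuotientGroup.eq_one_iff _).2 ?_
    rw [← commutatorElement_inv]
    exact inv_mem (filt_commutator 3 1 (commutator_mem_commutator hw₂ (by trivial)))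
  have h3 := Subgroup.card_le_of_le hle
  rw [FG78.card_comap_mk', h.card_filt 4 (by omega) (by omega)] at h3
  have hq := card_eq_card_quotient_mul_card_subgroup (filt G 4)
  rw [h.card, h.card_filt 4 (by omega) (by omega)] at hq
  have h4 : 3 ^ n ≤ 3 ^ (m + 1) :=
    calc 3 ^ n = Nat.card (G ⧸ filt G 4) * 3 ^ (n - 4) := hq
      _ ≤ 3 * Nat.card C * 3 ^ (n - 4) := Nat.mul_le_mul_right _ h2
      _ = 3 * (3 ^ (n - 4) * Nat.card C) := by ring
      _ ≤ 3 * 3 ^ m := Nat.mul_le_mul_left _ (hm ▸ h3)
      _ = 3 ^ (m + 1) := (pow_succ' 3 m).symm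
  rw [hm] at hne ⊢
  have h5 := (Nat.pow_le_pow_iff_right (by norm_num : 1 < 3)).1 h4
  have h6 := (Nat.pow_lt_pow_iff_right (by norm_num : 1 < 3)).1 hne
  congr 1; omega

/-- Every element outside the two-step centraliser has centraliser of order `9`. -/
theorem cfg_of_not_mem (hn : 5 ≤ n) {g : G} (hg : g ∉ twoStep G 2) : Cfg 3 n g := by
  have hne : ∀ i, 2 ≤ i → i + 2 ≤ n → g ∉ twoStep G i := by
    intro i hi hin hgi
    refine hg ?_
    have hle := h.twoStep_le hn i hi hin
    have heq : twoStep G 2 = twoStep G i := by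
      refine Subgroup.eq_of_le_of_card_ge hle ?_
      obtain ⟨m, hm⟩ := PGroup.exists_card_eq_pow h.isPGroup (twoStep G i)
      have hlt : Nat.card (twoStep G i) < 3 ^ n := by
        rw [← h.card]
        refine lt_of_le_of_ne (Subgroup.card_le_card_group _) fun he => h.x_not_twoStep hi hin ?_
        rw [Subgroup.eq_top_of_card_eq _ he]
        exact mem_top x
      rw [hm] at hlt ⊢
      rw [h.card_twoStep hn]
      have := (Nat.pow_lt_pow_iff_right (by norm_num : 1 < 3)).1 hlt
      exact Nat.pow_le_pow_right (by norm_num) (by omega)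
    rw [heq]; exact hgi
  set C := centralizer ({g} : Set G) with hC
  have hC2 : C ⊓ filt G 2 ≤ filt G (n - 1) := by
    intro v hv
    rw [mem_inf] at hv
    have key : ∀ i, 2 ≤ i → i ≤ n - 1 → v ∈ filt G i := by
      intro i hi
      induction i, hi using Nat.le_induction with
      | base => exact fun _ => hv.2
      | succ i hi ih =>
        intro hin
        by_contra hv'
        have hvi := ih (by omega)
        refine hne i hi (by omega) fun w hw => ?_
        rw [← h.layer_gen hi (by omega) hvi hv'] at hw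
        obtain ⟨w₁, hw₁, w₂, hw₂, rfl⟩ := mem_sup_of_normal_right.1 hw
        obtain ⟨s, rfl⟩ := mem_zpowers_iff.1 hw₁
        set π := QuotientGroup.mk' (filt G (i + 2))
        refine (QuotientGroup.eq_one_iff _).1 ?_
        show π ⁅g, v ^ s * w₂⁆ = 1
        rw [map_commutatorElement, commutatorElement_eq_one_iff_mul_comm, map_mul, map_zpow]
        refine (Commute.mul_right (Commute.zpow_right ?_ s) ?_).eq
        · exact (show Commute g v from (mem_centralizer_singleton_iff.1 hv.1).symm).map π
        · show _ = _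
          rw [← commutatorElement_eq_one_iff_mul_comm, ← map_commutatorElement]
          refine (QuotientGroup.eq_one_iff _).2 ?_
          rw [← commutatorElement_inv]
          exact inv_mem (filt_commutator (i + 1) 1 (commutator_mem_commutator hw₂ (by trivial)))
    exact key (n - 1) (by omega) le_rfl
  have hCM : C ⊓ twoStep G 2 ≤ filt G 2 := by
    intro c hc
    by_contra hc2
    rw [mem_inf] at hc
    have hMgen : zpowers c ⊔ filt G 2 = twoStep G 2 := by
      refine Subgroup.eq_of_le_of_card_ge (sup_le (zpowers_le.2 hc.2) h.filt_two_le_twoStep) ?_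
      obtain ⟨m, hm⟩ := PGroup.exists_card_eq_pow h.isPGroup (zpowers c ⊔ filt G 2 : Subgroup G)
      have h1 : Nat.card (filt G 2) < Nat.card (zpowers c ⊔ filt G 2 : Subgroup G) := by
        refine lt_of_le_of_ne (Subgroup.card_le_of_le le_sup_right) fun he => hc2 ?_
        rw [Subgroup.eq_of_le_of_card_ge le_sup_right he.ge]
        exact mem_sup_left (mem_zpowers c)
      rw [hm, h.card_commutator] at h1
      have := (Nat.pow_lt_pow_iff_right (by norm_num : 1 < 3)).1 h1
      rw [hm, h.card_twoStep hn]
      exact Nat.pow_le_pow_right (by norm_num) (by omega)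
    have htop : closure ({g, c} : Set G) = ⊤ := by
      refine frattini_nongenerating (top_le_iff.1 ?_)
      have h1 : (⊤ : Subgroup G) ≤ zpowers g ⊔ twoStep G 2 := by
        have hlt : Nat.card (twoStep G 2) < Nat.card (zpowers g ⊔ twoStep G 2 : Subgroup G) := by
          refine lt_of_le_of_ne (Subgroup.card_le_of_le le_sup_right) fun he => hg ?_
          rw [Subgroup.eq_of_le_of_card_ge le_sup_right he.ge]
          exact mem_sup_left (mem_zpowers g)
        obtain ⟨m, hm⟩ := PGroup.exists_card_eq_pow h.isPGroup (zpowers g ⊔ twoStep G 2 : Subgroup G)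
        rw [hm, h.card_twoStep hn] at hlt
        have := (Nat.pow_lt_pow_iff_right (by norm_num : 1 < 3)).1 hlt
        refine (Subgroup.eq_top_of_le_card _ ?_).ge
        rw [hm, h.card]
        exact Nat.pow_le_pow_right (by norm_num) (by omega)
      refine h1.trans (sup_le (zpowers_le.2 (mem_sup_left (subset_closure (Set.mem_insert g _)))) ?_)
      rw [← hMgen]
      refine sup_le (zpowers_le.2 (mem_sup_left
        (subset_closure (Set.mem_insert_of_mem g (Set.mem_singleton c))))) ?_
      exact (le_of_eq_of_le filt_two (PGroup.commutator_le_frattini h.isPGroup)).trans le_sup_right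
    apply h.not_comm
    haveI : IsMulCommutative (closure ({g, c} : Set G)) := Subgroup.isMulCommutative_closure (by
      rintro a (rfl | rfl) b (rfl | rfl)
      · rfl
      · exact (mem_centralizer_singleton_iff.1 hc.1).symm
      · exact mem_centralizer_singleton_iff.1 hc.1
      · rfl)
    intro a b
    exact congrArg Subtype.val (IsMulCommutative.is_comm.comm
      (⟨a, htop ▸ mem_top a⟩ : closure ({g, c} : Set G)) ⟨b, htop ▸ mem_top b⟩)
  refine ⟨h.card, h.three, le_antisymm ?_ ?_⟩
  · have h1 := card_eq_relIndex_mul (twoStep G 2) C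
    have h2 : (twoStep G 2).relIndex C ≤ 3 := by
      have hidx : (twoStep G 2).index = 3 := by
        have h3 := (twoStep G 2).card_mul_index
        rw [h.card_twoStep hn, h.card, show 3 ^ n = 3 ^ (n - 1) * 3 by rw [← pow_succ]; congr 1; omega]
          at h3
        exact Nat.eq_of_mul_eq_mul_left (by positivity) h3
      rw [← hidx, ← relIndex_top_right]
      exact relIndex_le_of_le_right le_top (by rw [relIndex_top_right, hidx]; norm_num)
    have h4 : Nat.card (C ⊓ twoStep G 2 : Subgroup G) ≤ 3 := by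
      refine (Subgroup.card_le_of_le ((le_inf inf_le_left hCM).trans hC2)).trans ?_
      rw [h.card_filt (n - 1) (by omega) (by omega), show n - (n - 1) = 1 by omega, pow_one]
    calc Nat.card C = _ := h1
      _ ≤ 3 * 3 := Nat.mul_le_mul h2 h4
      _ = 3 ^ 2 := by norm_num
  · have hgz : g ∉ center G := fun hgz => hg (fun v hv => by
      rw [mul_inv_eq_one.2 ((mul_inv_eq_iff_eq_mul).2 ((mem_center_iff.1 hgz v).symm))]
      exact one_mem _)
    obtain ⟨v, hv⟩ := PGroup.exists_card_eq_pow h.isPGroup C
    have h1 : Nat.card (center G) < Nat.card C := by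
      refine lt_of_le_of_ne (Subgroup.card_le_of_le (center_le_centralizer _)) fun he => hgz ?_
      rw [Subgroup.eq_of_le_of_card_ge (center_le_centralizer _) he.ge]
      exact mem_centralizer_singleton_iff.2 rfl
    rw [h.card_center, hv] at h1
    have := (Nat.pow_lt_pow_iff_right (by norm_num : 1 < 3)).1 (show 3 ^ 1 < 3 ^ v by simpa using h1)
    rw [hv]
    exact Nat.pow_le_pow_right (by norm_num) (by omega)

/-- Cubes of the elements of the two-step centraliser. -/
theorem cube_not_mem (hn : 5 ≤ n) {a : G} (ha : a ∈ twoStep G 2) (ha' : a ∉ filt G 2) :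
    a ^ 3 ∉ filt G 4 := by
  intro ha3
  set π := QuotientGroup.mk' (filt G 4) with hπ
  have hlcs : ∀ k, ∀ z ∈ (⊤ : Subgroup (G ⧸ filt G 4)).lowerCentralSeries k,
      ∃ w ∈ filt G (k + 1), π w = z := by
    intro k z hz
    rw [← map_top_of_surjective π (QuotientGroup.mk'_surjective _), ← map_lowerCentralSeries] at hz
    obtain ⟨w, hw, e⟩ := hz
    exact ⟨w, hw, e⟩
  have hN : filt (G ⧸ filt G 4) (3 + 1) = ⊥ := by
    rw [eq_bot_iff]
    intro z hz
    obtain ⟨w, hw, rfl⟩ := hlcs 3 z hz
    exact mem_bot.2 ((QuotientGroup.eq_one_iff _).2 hw)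
  have hB : ∀ z ∈ filt (G ⧸ filt G 4) 3, z ^ 3 = 1 := by
    intro z hz
    obtain ⟨w, hw, rfl⟩ := hlcs 2 z hz
    rw [← map_pow]
    exact (QuotientGroup.eq_one_iff _).2 (h.pow_p_mem_succ (i := 3) (by omega) hw)
  have hx2 : x ∉ twoStep G 2 := h.x_not_twoStep le_rfl (by omega)
  have hz4 : ∀ z ∈ center G, π z = 1 := fun z hz =>
    (QuotientGroup.eq_one_iff _).2 (filt_antitone (show 4 ≤ n - 1 by omega) (h.center_eq ▸ hz))
  have hh : ∀ m < 3, (π a * π x ^ m) ^ 3 = (π x ^ m) ^ 3 := by
    intro m hm
    rw [← map_pow π x m, ← map_mul, ← map_pow, ← map_pow]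
    rcases Nat.eq_zero_or_pos m with rfl | hm0
    · simp only [pow_zero, mul_one, one_pow, map_one]
      exact (QuotientGroup.eq_one_iff _).2 ha3
    · have hxm : x ^ m ∉ twoStep G 2 := by
        intro hxm
        interval_cases m
        · exact hx2 (by simpa using hxm)
        · apply hx2
          have h6 : x ^ 3 ∈ twoStep G 2 := h.filt_two_le_twoStep
            (filt_antitone (show 2 ≤ n - 1 by omega) (h.center_eq ▸ h.x_pow_mem_center))
          have e : x = x ^ 3 * (x ^ 2)⁻¹ := by group
          rw [e]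
          exact mul_mem h6 (inv_mem hxm)
      have hax : a * x ^ m ∉ twoStep G 2 := fun hh => hxm ((mul_mem_cancel_left ha).1 hh)
      rw [hz4 _ (h.cfg_of_not_mem hn hax).x_pow_mem_center, hz4 _ (h.cfg_of_not_mem hn hxm).x_pow_mem_center]
  have hE := engel_of_pow (by norm_num : Nat.Prime 3) hN hB (π a) (π x) hh
  have hdl : ∀ c : G, dl (π x) (π c) = π (dl x c) := fun c => by simp [dl]
  rw [show 3 - 1 = 1 + 1 by rfl, Function.iterate_succ_apply', Function.iterate_one, hdl, hdl] at hE
  refine h.dl_not_mem le_rfl (by omega) ?_ ?_ ((QuotientGroup.eq_one_iff _).1 hE)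
  · rw [dl_eq]
    exact commutator_mem_commutator (H₁ := (⊤ : Subgroup G)) (H₂ := ⊤) (mem_top _) (mem_top _)
  · intro hd
    have hd' : QuotientGroup.mk' (filt G 3) (dl x a) = 1 := (QuotientGroup.eq_one_iff _).2 hd
    rw [dl_eq, map_commutatorElement, commutatorElement_eq_one_iff_mul_comm, map_inv] at hd'
    have hcomm : Commute (QuotientGroup.mk' (filt G 3) a) (QuotientGroup.mk' (filt G 3) x) := by
      simpa using (show Commute _ _ from hd').inv_left
    have hgen : closure ({a, x} : Set G) = ⊤ := by
      refine frattini_nongenerating (top_le_iff.1 ?_)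
      have hMgen : zpowers a ⊔ filt G 2 = twoStep G 2 := by
        refine Subgroup.eq_of_le_of_card_ge (sup_le (zpowers_le.2 ha) h.filt_two_le_twoStep) ?_
        obtain ⟨m, hm⟩ := PGroup.exists_card_eq_pow h.isPGroup (zpowers a ⊔ filt G 2 : Subgroup G)
        have h1 : Nat.card (filt G 2) < Nat.card (zpowers a ⊔ filt G 2 : Subgroup G) := by
          refine lt_of_le_of_ne (Subgroup.card_le_of_le le_sup_right) fun he => ha' ?_
          rw [Subgroup.eq_of_le_of_card_ge le_sup_right he.ge]
          exact mem_sup_left (mem_zpowers a)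
        rw [hm, h.card_commutator] at h1
        have := (Nat.pow_lt_pow_iff_right (by norm_num : 1 < 3)).1 h1
        rw [hm, h.card_twoStep hn]
        exact Nat.pow_le_pow_right (by norm_num) (by omega)
      have h1 : (⊤ : Subgroup G) ≤ zpowers x ⊔ twoStep G 2 := by
        have hlt : Nat.card (twoStep G 2) < Nat.card (zpowers x ⊔ twoStep G 2 : Subgroup G) := by
          refine lt_of_le_of_ne (Subgroup.card_le_of_le le_sup_right) fun he => hx2 ?_
          rw [Subgroup.eq_of_le_of_card_ge le_sup_right he.ge]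
          exact mem_sup_left (mem_zpowers x)
        obtain ⟨m, hm⟩ := PGroup.exists_card_eq_pow h.isPGroup (zpowers x ⊔ twoStep G 2 : Subgroup G)
        rw [hm, h.card_twoStep hn] at hlt
        have := (Nat.pow_lt_pow_iff_right (by norm_num : 1 < 3)).1 hlt
        refine (Subgroup.eq_top_of_le_card _ ?_).ge
        rw [hm, h.card]
        exact Nat.pow_le_pow_right (by norm_num) (by omega)
      refine h1.trans (sup_le (zpowers_le.2 (mem_sup_left
        (subset_closure (Set.mem_insert_of_mem a (Set.mem_singleton x))))) ?_)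
      rw [← hMgen]
      refine sup_le (zpowers_le.2 (mem_sup_left (subset_closure (Set.mem_insert a _)))) ?_
      exact (le_of_eq_of_le filt_two (PGroup.commutator_le_frattini h.isPGroup)).trans le_sup_right
    have hle : filt G 2 ≤ filt G 3 := by
      rw [filt_two]
      refine Subgroup.Normal.quotient_commutative_iff_commutator_le.1 ⟨⟨?_⟩⟩
      haveI : IsMulCommutative (closure (QuotientGroup.mk' (filt G 3) '' ({a, x} : Set G))) :=
        Subgroup.isMulCommutative_closure (by
          rintro _ ⟨u, (rfl | rfl), rfl⟩ _ ⟨w, (rfl | rfl), rfl⟩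
          · rfl
          · exact hcomm.eq
          · exact hcomm.eq.symm
          · rfl)
      have htop : closure (QuotientGroup.mk' (filt G 3) '' ({a, x} : Set G)) = ⊤ := by
        rw [← MonoidHom.map_closure, hgen, map_top_of_surjective _ (QuotientGroup.mk'_surjective _)]
      intro u w
      exact congrArg Subtype.val (IsMulCommutative.is_comm.comm
        (⟨u, htop ▸ mem_top u⟩ : closure (QuotientGroup.mk' (filt G 3) '' ({a, x} : Set G)))
        ⟨w, htop ▸ mem_top w⟩)
    have := Subgroup.card_le_of_le hle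
    rw [h.card_filt 2 le_rfl (by omega), h.card_filt 3 (by omega) (by omega)] at this
    have := (Nat.pow_le_pow_iff_right (by norm_num : 1 < 3)).1 this
    omega

/-- Sectional rank two, order at least `3 ^ 5`. -/
theorem index_frattini_le_nine (hn : 5 ≤ n) (H : Subgroup G) : (frattini H).index ≤ 3 ^ 2 := by
  have hH : IsPGroup 3 H := h.isPGroup.to_subgroup H
  set D : Subgroup G := (frattini H).map H.subtype with hD
  have hcardD : Nat.card D = Nat.card (frattini H) :=
    (Nat.card_congr (equivMapOfInjective _ _ H.subtype_injective).toEquiv).symm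
  suffices hkey : Nat.card H ≤ 3 ^ 2 * Nat.card D by
    rw [hcardD, ← (frattini H).card_mul_index, mul_comm] at hkey
    exact Nat.le_of_mul_le_mul_right hkey Nat.card_pos
  by_cases htop : H ⊔ filt G 2 = ⊤
  · have hHtop : H = ⊤ := by
      refine frattini_nongenerating (top_le_iff.1 ?_)
      rw [← htop]
      exact sup_le_sup_left (filt_two (G := G) ▸ PGroup.commutator_le_frattini h.isPGroup) _
    have hle : filt G 2 ≤ D := by
      rw [filt_two, _root_.commutator_def]
      conv_lhs => rw [← hHtop]
      rw [← Subgroup.map_subtype_commutator]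
      exact map_mono (PGroup.commutator_le_frattini hH)
    rw [hHtop, card_top, h.card]
    calc 3 ^ n = 3 ^ 2 * Nat.card (filt G 2) := by
          rw [h.card_commutator, ← pow_add]; congr 1; omega
      _ ≤ 3 ^ 2 * Nat.card D := Nat.mul_le_mul_left _ (Subgroup.card_le_of_le hle)
  set K := (H ⊓ filt G 2 : Subgroup G) with hK
  have hrel : (filt G 2).relIndex H ≤ 3 := by
    have h1 := card_eq_relIndex_mul (filt G 2) (H ⊔ filt G 2)
    rw [inf_eq_right.2 le_sup_right, relIndex_sup_right, h.card_commutator] at h1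
    obtain ⟨m, hm⟩ := PGroup.exists_card_eq_pow h.isPGroup (H ⊔ filt G 2)
    have hlt : 3 ^ m < 3 ^ n := by
      rw [← hm, ← h.card]
      exact lt_of_le_of_ne (Subgroup.card_le_card_group _) fun he =>
        htop (Subgroup.eq_top_of_card_eq _ he)
    have hmn := (Nat.pow_lt_pow_iff_right (by norm_num : 1 < 3)).1 hlt
    have h2 : (filt G 2).relIndex H * 3 ^ (n - 2) ≤ 3 * 3 ^ (n - 2) := by
      rw [← h1, hm, ← pow_succ']
      exact Nat.pow_le_pow_right (by norm_num) (by omega)
    exact Nat.le_of_mul_le_mul_right h2 (by positivity)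
  have hcardH : Nat.card H = (filt G 2).relIndex H * Nat.card K := card_eq_relIndex_mul _ _
  have hpow : ∀ k ∈ H, k ^ 3 ∈ D := fun k hk =>
    ⟨⟨k, hk⟩ ^ 3, PGroup.pow_mem_frattini hH _, rfl⟩
  by_cases hHM : H ≤ twoStep G 2
  · have hc := h.card_le_pow_mul K D (fun k hk => hpow k (mem_inf.1 hk).1) (n - 2) 2 (by omega) le_rfl
    rw [inf_eq_left.2 (inf_le_right : K ≤ filt G 2)] at hc
    rw [show min (2 + 3 - 1) n = 4 by omega, show min (3 - 1) (n - 2) = 2 by omega] at hc
    by_cases hH2 : H ≤ filt G 2
    · have hHK : H = K := (inf_eq_left.2 hH2).symm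
      rw [hHK]
      exact hc.trans (Nat.mul_le_mul_left _ (Subgroup.card_le_of_le inf_le_left))
    · obtain ⟨a, haH, ha2⟩ := SetLike.not_le_iff_exists.1 hH2
      have h7 : 3 * Nat.card (D ⊓ filt G 4 : Subgroup G) ≤ Nat.card D := by
        obtain ⟨u, hu⟩ := PGroup.exists_card_eq_pow h.isPGroup (D ⊓ filt G 4 : Subgroup G)
        obtain ⟨v, hv⟩ := PGroup.exists_card_eq_pow h.isPGroup D
        have hlt : Nat.card (D ⊓ filt G 4 : Subgroup G) < Nat.card D := by
          refine lt_of_le_of_ne (Subgroup.card_le_of_le inf_le_left) fun he =>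
            h.cube_not_mem hn (hHM haH) ha2 ?_
          exact (mem_inf.1 ((Subgroup.eq_of_le_of_card_ge inf_le_left he.ge).ge (hpow a haH))).2
        rw [hu, hv] at hlt ⊢
        rw [← pow_succ']
        exact Nat.pow_le_pow_right (by norm_num) ((Nat.pow_lt_pow_iff_right (by norm_num : 1 < 3)).1 hlt)
      calc Nat.card H = _ := hcardH
        _ ≤ 3 * (3 ^ 2 * Nat.card (D ⊓ filt G 4 : Subgroup G)) := Nat.mul_le_mul hrel hc
        _ = 3 ^ 2 * (3 * Nat.card (D ⊓ filt G 4 : Subgroup G)) := by ring
        _ ≤ 3 ^ 2 * Nat.card D := Nat.mul_le_mul_left _ h7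
  · obtain ⟨g, hgH, hgM⟩ := SetLike.not_le_iff_exists.1 hHM
    have hg := h.cfg_of_not_mem hn hgM
    have hKD : Nat.card K ≤ 3 * Nat.card D := by
      have key : ∀ d i, i + d = n → 2 ≤ i → Nat.card (K ⊓ filt G i : Subgroup G) ≤ 3 * Nat.card D := by
        intro d
        induction d with
        | zero =>
          intro i hi _
          rw [add_zero] at hi
          subst hi
          rw [h.filt_n, inf_bot_eq, card_bot]
          exact Nat.one_le_iff_ne_zero.2 (Nat.mul_ne_zero (by norm_num) Nat.card_pos.ne')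
        | succ d ih =>
          intro i hid hi
          by_cases hK' : K ⊓ filt G i ≤ filt G (i + 1)
          · have he : (K ⊓ filt G i : Subgroup G) = K ⊓ filt G (i + 1) :=
              le_antisymm (le_inf inf_le_left hK') (inf_le_inf_left _ (filt_antitone (Nat.le_succ i)))
            rw [he]
            exact ih (i + 1) (by omega) (by omega)
          · obtain ⟨k, hk, hk'⟩ := SetLike.not_le_iff_exists.1 hK'
            rw [mem_inf] at hk
            have hit : ∀ j, (dl g)^[j] k ∈ H := by
              intro j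
              induction j with
              | zero => exact (mem_inf.1 hk.1).1
              | succ j ihj =>
                rw [Function.iterate_succ_apply']
                exact mul_mem (inv_mem ihj) (mul_mem (mul_mem hgH ihj) (inv_mem hgH))
            have hgen : ∀ e j, j + e = n → i + 1 ≤ j → filt G j ≤ D := by
              intro e
              induction e with
              | zero =>
                intro j hj _
                rw [add_zero] at hj
                subst hj
                rw [h.filt_n]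
                exact bot_le
              | succ e ihe =>
                intro j hje hj
                obtain ⟨t, rfl⟩ : ∃ t, j = i + (t + 1) := ⟨j - i - 1, by omega⟩
                have hm : (dl g)^[t + 1] k ∈ D := by
                  rw [Function.iterate_succ_apply', dl_eq]
                  exact ⟨⁅⟨((dl g)^[t] k)⁻¹, inv_mem (hit t)⟩, ⟨g, hgH⟩⁆,
                    PGroup.comm_mem_frattini hH _ _, rfl⟩
                rw [← h.layer_gen (by omega) (by omega) (dl_iter_mem g hk.2 (t + 1))
                  (hg.dl_iter_not_mem hi hk.2 hk' (t + 1) (by omega))]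
                exact sup_le (zpowers_le.2 hm) (ihe _ (by omega) (by omega))
            have h1 := hgen d (i + 1) (by omega) le_rfl
            calc Nat.card (K ⊓ filt G i : Subgroup G) ≤ Nat.card (filt G i) :=
                  Subgroup.card_le_of_le inf_le_right
              _ = 3 * Nat.card (filt G (i + 1)) := by
                  rw [h.card_filt i hi (by omega), h.card_filt (i + 1) (by omega) (by omega), ← pow_succ']
                  congr 1; omega
              _ ≤ 3 * Nat.card D := Nat.mul_le_mul_left _ (Subgroup.card_le_of_le h1)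
      have := key (n - 2) 2 (by omega) le_rfl
      rwa [inf_eq_left.2 (inf_le_right : K ≤ filt G 2)] at this
    calc Nat.card H = _ := hcardH
      _ ≤ 3 * (3 * Nat.card D) := Nat.mul_le_mul hrel hKD
      _ = 3 ^ 2 * Nat.card D := by ring

/-- Order `3 ^ 4`. -/
theorem order_81 (hn : n = 4) :
    (∀ H : Subgroup G, (frattini H).index ≤ 3 ^ 2) ∨
      (∃ W : Sylow 3 (Equiv.Perm (Fin 9)), Nonempty (G ≃* ↥(W : Subgroup (Equiv.Perm (Fin 9))))) := by
  subst hn
  by_cases hA : ∃ A : Subgroup G, Nat.card A = 3 ^ 3 ∧ (∀ a b : A, Commute a b) ∧ ∀ a : A, a ^ 3 = 1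
  · right
    obtain ⟨A, hAc, hab, hexp⟩ := hA
    have hAn : A.Normal := PGroup.normal_of_index_eq_prime h.isPGroup (by
      have h1 := A.card_mul_index
      rw [hAc, h.card] at h1
      omega)
    have hZA : center G ≤ A := by
      have hne := PGroup.inf_center_ne_bot h.isPGroup (hN := hAn) (N := A) (fun hb => by
        rw [hb, card_bot] at hAc; omega)
      have h1 := PGroup.le_card_of_ne_bot h.isPGroup hne
      have h2 : A ⊓ center G = center G :=
        Subgroup.eq_of_le_of_card_ge inf_le_right (by rw [h.card_center]; exact h1)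
      exact h2 ▸ inf_le_left
    obtain ⟨z, hz, hz1⟩ : ∃ z ∈ center G, z ≠ 1 := by
      by_contra! hc
      have := h.card_center
      rw [show center G = ⊥ from (eq_bot_iff).2 fun u hu => mem_bot.2 (hc u hu), card_bot] at this
      omega
    have hG' : IsPGroup 3 A := h.isPGroup.to_subgroup A
    obtain ⟨U', -, hU', hzU⟩ := PGroup.exists_isCoatom_not_mem (p := 3) hab hexp
      (H := (⊥ : Subgroup A)) (v := (⟨z, hZA hz⟩ : A))
      (fun hh => hz1 (congrArg Subtype.val (mem_bot.1 hh)))
    set U : Subgroup G := U'.map A.subtype with hU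
    have hUcard : Nat.card U = 3 ^ 2 := by
      rw [hU, ← Nat.card_congr (equivMapOfInjective _ _ A.subtype_injective).toEquiv]
      have h1 := U'.card_mul_index
      rw [hAc, PGroup.index_eq_prime_of_isCoatom hG' hU'] at h1
      omega
    have hcore : U.normalCore = ⊥ := by
      by_contra hne
      have h0 := PGroup.inf_center_ne_bot h.isPGroup (hN := U.normalCore_normal) hne
      have h1 := PGroup.le_card_of_ne_bot h.isPGroup h0
      have h2 : U.normalCore ⊓ center G = center G :=
        Subgroup.eq_of_le_of_card_ge inf_le_right (by rw [h.card_center]; exact h1)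
      have h3 : z ∈ U := U.normalCore_le ((h2 ▸ inf_le_left : center G ≤ U.normalCore) hz)
      obtain ⟨u, hu, e⟩ := h3
      exact hzU (by rwa [show (⟨z, hZA hz⟩ : A) = u from Subtype.ext e.symm])
    have hidx : Nat.card (G ⧸ U) = 9 := by
      have h1 := card_eq_card_quotient_mul_card_subgroup U
      rw [h.card, hUcard] at h1
      omega
    let e : G ⧸ U ≃ Fin 9 := (Finite.equivFinOfCardEq hidx)
    let f : G →* Equiv.Perm (Fin 9) :=
      (Equiv.permCongrHom e).toMonoidHom.comp (MulAction.toPermHom G (G ⧸ U))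
    have hf : Function.Injective f := by
      refine (Equiv.permCongrHom e).injective.comp ?_
      rw [← MonoidHom.ker_eq_bot_iff, ← normalCore_eq_ker, hcore]
    have hr : Nat.card f.range = 3 ^ 4 := by
      rw [← Nat.card_congr (MonoidHom.ofInjective hf).toEquiv, h.card]
    obtain ⟨W, hW⟩ := (IsPGroup.of_card hr).exists_le_sylow
    have hWcard : Nat.card W = 3 ^ 4 := by
      rw [W.card_eq_multiplicity, Nat.card_perm, Nat.card_fin]
      have e1 : Nat.factorial 9 = 3 ^ 4 * 4480 := by rfl
      rw [e1, Nat.factorization_mul (by norm_num) (by norm_num), Finsupp.add_apply,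
        Nat.factorization_pow, Finsupp.smul_apply, Nat.Prime.factorization_self (by norm_num),
        Nat.factorization_eq_zero_of_not_dvd (by norm_num : ¬ 3 ∣ 4480)]
      rfl
    have heq : f.range = (W : Subgroup (Equiv.Perm (Fin 9))) :=
      Subgroup.eq_of_le_of_card_ge hW (by rw [hr, hWcard])
    exact ⟨W, ⟨(MonoidHom.ofInjective hf).trans (MulEquiv.subgroupCongr heq)⟩⟩
  · left
    intro H
    have hH : IsPGroup 3 H := h.isPGroup.to_subgroup H
    obtain ⟨m, hm⟩ := PGroup.exists_card_eq_pow h.isPGroup H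
    have hm4 : m ≤ 4 := by
      have := Subgroup.card_le_card_group H
      rw [hm, h.card] at this
      exact (Nat.pow_le_pow_iff_right (by norm_num)).1 this
    rcases (show m ≤ 2 ∨ m = 3 ∨ m = 4 by omega) with h2 | rfl | rfl
    · exact (Nat.le_of_dvd Nat.card_pos (frattini H).index_dvd_card).trans
        (hm ▸ Nat.pow_le_pow_right (by norm_num) h2)
    · have hne : frattini H ≠ ⊥ := by
        intro hb
        refine hA ⟨H, hm, fun a b => ?_, fun a => ?_⟩
        · have h1 := PGroup.comm_mem_frattini hH a b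
          rw [hb, mem_bot] at h1
          exact commutatorElement_eq_one_iff_mul_comm.1 h1
        · have h1 := PGroup.pow_mem_frattini hH a
          rwa [hb, mem_bot] at h1
      have h1 := PGroup.le_card_of_ne_bot hH hne
      have h2 := (frattini H).card_mul_index
      rw [hm] at h2
      nlinarith
    · have hHtop : H = ⊤ := Subgroup.eq_top_of_card_eq _ (by rw [hm, h.card])
      subst hHtop
      have hle : (filt G 2).subgroupOf (⊤ : Subgroup G) ≤ frattini (⊤ : Subgroup G) := by
        refine le_trans ?_ (PGroup.commutator_le_frattini hH)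
        intro u hu
        have h1 : (u : G) ∈ (_root_.commutator (⊤ : Subgroup G)).map (⊤ : Subgroup G).subtype := by
          rw [Subgroup.map_subtype_commutator, ← _root_.commutator_def, ← filt_two]
          exact hu
        obtain ⟨v, hv, e⟩ := h1
        rwa [← Subtype.ext e]
      have h1 := Subgroup.card_le_of_le hle
      rw [Nat.card_congr (subgroupOfEquivOfLe le_top).toEquiv, h.card_commutator] at h1
      have h2 := (frattini (⊤ : Subgroup G)).card_mul_index
      rw [hm] at h2
      rw [show (3 : ℕ) ^ 4 = 81 by norm_num] at h2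
      rw [show (3 : ℕ) ^ (4 - 2) = 9 by norm_num] at h1
      rw [show (3 : ℕ) ^ 2 = 9 by norm_num]
      exact Nat.le_of_mul_le_mul_left (by omega : _ * _ ≤ Nat.card (frattini (⊤ : Subgroup G)) * 9)
        Nat.card_pos

end Cfg

end Cfsg.Agent.SectRank81
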