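import Cfsg.Agent.FG38.PolyMap
import Mathlib.FieldTheory.Finite.Basic

/-!
An Engel-type consequence of `(a x ^ n) ^ p = (x ^ n) ^ p` for `n < p`, in class at most `p`.
-/

set_option autoImplicit false
set_option linter.unusedSectionVars false
set_option linter.style.haveILetI false

namespace Cfsg.Agent.SectRank81

open Subgroup FG38
open scoped commutatorElement

variable {H : Type*} [Group H]

/-- The commutation map `c ↦ c⁻¹ y c y⁻¹`. -/
def dl (y c : H) : H := c⁻¹ * (y * c * y⁻¹)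

theorem dl_eq (y c : H) : dl y c = ⁅c⁻¹, y⁆ := by
  simp [dl, commutatorElement_def, mul_assoc]

theorem dl_mem (y : H) {d : ℕ} {c : H} (hc : c ∈ filt H d) : dl y c ∈ filt H (d + 1) := by
  rw [dl_eq]
  exact filt_commutator d 1 (commutator_mem_commutator (inv_mem hc) (by trivial))

theorem dl_iter_mem (y : H) {d : ℕ} {c : H} (hc : c ∈ filt H d) :
    ∀ j : ℕ, (dl y)^[j] c ∈ filt H (d + j) := by
  intro j
  induction j with
  | zero => exact hc
  | succ j ih => rw [Function.iterate_succ_apply']; exact dl_mem y ih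

theorem mk_comm (d : ℕ) {w : H} (hw : w ∈ filt H (d + 1)) (g : H) :
    QuotientGroup.mk' (filt H (d + 2)) w * QuotientGroup.mk' (filt H (d + 2)) g =
      QuotientGroup.mk' (filt H (d + 2)) g * QuotientGroup.mk' (filt H (d + 2)) w := by
  rw [← commutatorElement_eq_one_iff_mul_comm, ← map_commutatorElement]
  exact (QuotientGroup.eq_one_iff _).2
    (filt_commutator (d + 1) 1 (commutator_mem_commutator hw (by trivial)))

theorem mk_dl_mul (y : H) {d : ℕ} {u : H} (hu : u ∈ filt H d) (v : H) :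
    QuotientGroup.mk' (filt H (d + 2)) (dl y (u * v)) =
      QuotientGroup.mk' (filt H (d + 2)) (dl y u) * QuotientGroup.mk' (filt H (d + 2)) (dl y v) := by
  have e : dl y (u * v) = v⁻¹ * dl y u * v * dl y v := by simp [dl, mul_assoc]
  rw [e, map_mul, map_mul, map_mul, ← mk_comm d (dl_mem y hu), mul_assoc _ _ (QuotientGroup.mk' _ v),
    ← map_mul _ v⁻¹, inv_mul_cancel, map_one, mul_one]

theorem mk_dl_pow (y : H) {d : ℕ} {u : H} (hu : u ∈ filt H d) (m : ℕ) :
    QuotientGroup.mk' (filt H (d + 2)) (dl y (u ^ m)) =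
      QuotientGroup.mk' (filt H (d + 2)) (dl y u) ^ m := by
  induction m with
  | zero => simp [dl]
  | succ m ih => rw [pow_succ, mk_dl_mul y (pow_mem hu m), ih, pow_succ]

theorem mk_dl_base (x : H) {d : ℕ} {u : H} (hu : u ∈ filt H d) (k : ℕ) :
    QuotientGroup.mk' (filt H (d + 2)) (dl (x ^ k) u) =
      QuotientGroup.mk' (filt H (d + 2)) (dl x u) ^ k := by
  induction k with
  | zero => simp [dl]
  | succ k ih =>
    have e : dl (x ^ (k + 1)) u = dl (x ^ k) u * (x ^ k * dl x u * (x ^ k)⁻¹) := by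
      simp [dl, pow_succ, mul_assoc]
    rw [e, map_mul, ih, pow_succ, map_mul, map_mul, ← mk_comm d (dl_mem x hu), mul_assoc _ _ (QuotientGroup.mk' _ (x ^ k)⁻¹),
      ← map_mul _ (x ^ k), mul_inv_cancel, map_one, mul_one]

theorem mk_iter_dl (x a : H) (k : ℕ) : ∀ j : ℕ,
    QuotientGroup.mk' (filt H (j + 2)) ((dl (x ^ k))^[j] a) =
      QuotientGroup.mk' (filt H (j + 2)) ((dl x)^[j] a) ^ (k ^ j) := by
  intro j
  induction j with
  | zero => simp
  | succ j ih =>
    set A := (dl (x ^ k))^[j] a with hA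
    set D := (dl x)^[j] a with hD
    have hDm : D ∈ filt H (j + 1) := by
      have := dl_iter_mem x (show a ∈ filt H 1 by trivial) j
      rwa [add_comm] at this
    rw [← map_pow] at ih
    have hu : (D ^ k ^ j)⁻¹ * A ∈ filt H (j + 2) := QuotientGroup.eq.1 ih.symm
    have hu' : QuotientGroup.mk' (filt H (j + 1 + 2)) (dl (x ^ k) ((D ^ k ^ j)⁻¹ * A)) = 1 :=
      (QuotientGroup.eq_one_iff _).2 (dl_mem _ hu)
    rw [Function.iterate_succ_apply', Function.iterate_succ_apply', ← hA, ← hD,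
      show A = D ^ k ^ j * ((D ^ k ^ j)⁻¹ * A) by group, mk_dl_mul _ (pow_mem hDm _), hu', mul_one,
      mk_dl_pow _ hDm, mk_dl_base _ hDm, ← pow_mul, pow_succ, mul_comm k]

theorem diff_iter_conj (y : H) : ∀ (j : ℕ) (c : H),
    diff^[j] (fun n => y ^ n * c * (y ^ n)⁻¹) =
      fun n => y ^ n * (dl y)^[j] c * (y ^ n)⁻¹ := by
  intro j
  induction j with
  | zero => intro c; rfl
  | succ j ih =>
    intro c
    have e : diff (fun n => y ^ n * c * (y ^ n)⁻¹) = fun n => y ^ n * dl y c * (y ^ n)⁻¹ := by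
      funext n; simp [diff, dl, pow_succ, mul_assoc]
    rw [Function.iterate_succ_apply, e, ih, Function.iterate_succ_apply]

variable [Finite H] {p : ℕ}

theorem isPoly_conj_seq (hN : filt H (p + 1) = ⊥) (y : H) {d : ℕ} {c : H} (hc : c ∈ filt H d) :
    IsPoly d (fun n => y ^ n * c * (y ^ n)⁻¹) := by
  have h1 : IsPoly d (fun n : ℕ => c ^ n.choose 0) := isPoly_choose_pow 0 d (by simpa using hc)
  have h2 := (polyClosed_conj hN (polyClosed hN 0) (Nat.zero_le d) h1 (isPoly_pow y)).1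
  have e : (fun n : ℕ => y ^ n * c * (y ^ n)⁻¹) =
      (fun n => y ^ n) * (fun n : ℕ => c ^ n.choose 0) * (fun n => y ^ n)⁻¹ := by
    funext n; simp
  rw [e]; exact h2

/-- The top difference is multiplicative. -/
theorem symbol_mul (hN : filt H (p + 1) = ⊥) : ∀ (r d : ℕ), 1 ≤ d → d + r = p →
    ∀ f g : ℕ → H, IsPoly d f → IsPoly d g →
      (diff^[r] (f * g)) 0 = (diff^[r] f) 0 * (diff^[r] g) 0 := by
  intro r
  induction r with
  | zero => intros; rfl
  | succ r ih =>
    intro d hd hdr f g hf hg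
    have hcl := polyClosed hN 0
    set u := diff f with hu
    set v := diff g with hv
    have hu' : IsPoly (d + 1) u := (isPoly_iff.mp hf).2
    have hv' : IsPoly (d + 1) v := (isPoly_iff.mp hg).2
    have hw : IsPoly (d + 2) (fun n => ⁅u⁻¹ n, g⁻¹ n⁆) :=
      (hcl.2 (d + 1) d (Nat.zero_le _) _ _ (hcl.1 _ (Nat.zero_le _) _ _ hu' hu').2
        (hcl.1 _ (Nat.zero_le _) _ _ hg hg).2).mono (by omega)
    have hw0 : (diff^[r] (fun n => ⁅u⁻¹ n, g⁻¹ n⁆)) 0 = 1 := by
      have h := hw r 0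
      rwa [show d + 2 + r = p + 1 by omega, hN, mem_bot] at h
    have e : diff (f * g) = u * (fun n => ⁅u⁻¹ n, g⁻¹ n⁆) * v := by
      funext n
      simp [hu, hv, diff, commutatorElement_def, mul_assoc]
    rw [Function.iterate_succ_apply, Function.iterate_succ_apply, Function.iterate_succ_apply, e,
      ih (d + 1) (by omega) (by omega) _ v (hcl.1 _ (Nat.zero_le _) _ _ hu' (hw.mono (by omega))).1 hv',
      ih (d + 1) (by omega) (by omega) u _ hu' (hw.mono (by omega)), hw0, mul_one]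

/-- The product of the conjugates. -/
def prodSeq (a x : H) : ℕ → ℕ → H
  | 0 => fun _ => 1
  | t + 1 => prodSeq a x t * fun n => (x ^ t) ^ n * a * ((x ^ t) ^ n)⁻¹

theorem mul_pow_eq_prodSeq (a x : H) (n : ℕ) : ∀ t : ℕ,
    (a * x ^ n) ^ t = prodSeq a x t n * (x ^ n) ^ t := by
  intro t
  induction t with
  | zero => simp [prodSeq]
  | succ t ih =>
    rw [pow_succ, ih, prodSeq, Pi.mul_apply, show (x ^ t) ^ n = (x ^ n) ^ t by
      rw [← pow_mul, ← pow_mul, mul_comm], pow_succ (x ^ n)]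
    group

theorem isPoly_prodSeq (hN : filt H (p + 1) = ⊥) (a x : H) : ∀ t, IsPoly 1 (prodSeq a x t) := by
  intro t
  induction t with
  | zero => exact isPoly_one 1
  | succ t ih =>
    exact ((polyClosed hN 0).1 1 (Nat.zero_le _) _ _ ih
      (isPoly_conj_seq hN (x ^ t) (d := 1) (by trivial))).1

theorem diff_prodSeq (hN : filt H (p + 1) = ⊥) (hp : p.Prime) (a x : H) : ∀ t : ℕ,
    (diff^[p - 1] (prodSeq a x t)) 0 =
      ((dl x)^[p - 1] a) ^ (∑ k ∈ Finset.range t, k ^ (p - 1)) := by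
  intro t
  induction t with
  | zero => simp [prodSeq, Function.iterate_fixed diff_one]
  | succ t ih =>
    rw [prodSeq, symbol_mul hN (p - 1) 1 le_rfl (by have := hp.two_le; omega) _ _
      (isPoly_prodSeq hN a x t) (isPoly_conj_seq hN (x ^ t) (d := 1) (by trivial)), ih,
      diff_iter_conj, Finset.sum_range_succ, pow_add]
    simp only [pow_zero, one_mul, inv_one, mul_one]
    congr 1
    have h := mk_iter_dl x a t (p - 1)
    rw [show p - 1 + 2 = p + 1 by have := hp.two_le; omega, ← map_pow] at h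
    have h2 := QuotientGroup.eq.1 h
    rw [hN, mem_bot] at h2
    exact inv_mul_eq_one.1 h2

theorem sum_pow_cast (hp : p.Prime) : ∀ t : ℕ, t < p →
    ((∑ k ∈ Finset.range (t + 1), k ^ (p - 1) : ℕ) : ZMod p) = t := by
  haveI := Fact.mk hp
  intro t
  induction t with
  | zero =>
    intro _
    simp [zero_pow (show p - 1 ≠ 0 by have := hp.two_le; omega)]
  | succ t ih =>
    intro ht
    have hne : ((t + 1 : ℕ) : ZMod p) ≠ 0 := by
      rw [Ne, ZMod.natCast_eq_zero_iff]
      exact fun h => absurd (Nat.le_of_dvd (Nat.succ_pos t) h) (not_le.2 ht)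
    rw [Finset.sum_range_succ, Nat.cast_add, ih (by omega), Nat.cast_pow,
      ZMod.pow_card_sub_one_eq_one hne, Nat.cast_succ]

/-- If `(a x ^ n) ^ p = (x ^ n) ^ p` for `n < p` in class at most `p`, then `[a, x, …, x]` is
trivial (`p - 1` entries `x`). -/
theorem engel_of_pow (hp : p.Prime) (hN : filt H (p + 1) = ⊥)
    (hB : ∀ z ∈ filt H p, z ^ p = 1) (a x : H)
    (h : ∀ n < p, (a * x ^ n) ^ p = (x ^ n) ^ p) : (dl x)^[p - 1] a = 1 := by
  haveI := Fact.mk hp
  have hR : ∀ n < p, prodSeq a x p n = 1 := by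
    intro n hn
    have h1 := mul_pow_eq_prodSeq a x n p
    rw [h n hn] at h1
    exact mul_eq_right.1 h1.symm
  have h1 : (diff^[p - 1] (prodSeq a x p)) 0 = 1 := by
    rw [iterate_diff_eq (p - 1) (fun i hi => hR i (by omega))]
    exact hR _ (by have := hp.two_le; omega)
  rw [diff_prodSeq hN hp] at h1
  set B := (dl x)^[p - 1] a with hBdef
  have hBp : B ^ p = 1 := hB _ (by
    have := dl_iter_mem x (show a ∈ filt H 1 by trivial) (p - 1)
    rwa [show 1 + (p - 1) = p by have := hp.two_le; omega] at this)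
  obtain ⟨t, rfl⟩ : ∃ t, p = t + 1 := ⟨p - 1, by have := hp.two_le; omega⟩
  have hnd : ¬ (t + 1) ∣ ∑ k ∈ Finset.range (t + 1), k ^ (t + 1 - 1) := by
    intro hd
    rw [← ZMod.natCast_eq_zero_iff, sum_pow_cast hp t (Nat.lt_succ_self t),
      ZMod.natCast_eq_zero_iff] at hd
    have := hp.two_le
    exact absurd (Nat.le_of_dvd (by omega) hd) (by omega)
  rw [← orderOf_eq_one_iff]
  refine Nat.eq_one_of_dvd_one ?_
  rw [← (hp.coprime_iff_not_dvd.2 hnd).gcd_eq_one]
  exact Nat.dvd_gcd (orderOf_dvd_of_pow_eq_one hBp) (orderOf_dvd_of_pow_eq_one h1)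

end Cfsg.Agent.SectRank81
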